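import Cfsg.Agent.H11.LocalC.Basic
import Cfsg.Agent.H43.Blocks.Facts
import Cfsg.Agent.H31.FFPlane

/-!
A common normal two-subgroup: a module `U` inside the Thompson subgroup of `R`, on which `J(R)` acts
coordinatewise by transvections, has all its conjugates under a group normalizing `R` inside `Q`.
-/

set_option autoImplicit false
set_option linter.unusedSectionVars false
set_option linter.style.haveILetI false

namespace Cfsg.Agent.H42.QTPush

open Subgroup Cfsg.Agent
open Cfsg.Agent.H11.LocalC (conjS mem_conjS conjS_conjS conjS_one conjS_mono conjS_eq_self)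
open scoped commutatorElement

universe u

variable {G : Type u} [Group G]

/-- `J(R)` at the prime two. -/
abbrev jR (R : Subgroup G) : Subgroup G := Cfsg.thompsonSubgroupOf 2 R

/-- Coordinates on `U` on which `J(R)` acts by transvections, one for each factor. -/
structure Sys (T R U : Subgroup G) where
  ι : Type u
  fin : Fintype ι
  F : Type
  field : Field F
  finF : Fintype F
  t : ι → G → F
  x : ι → G → F
  y : ι → G → F
  f : ι → G
  t_mul : ∀ i, ∀ a ∈ jR R, ∀ b ∈ jR R, t i (a * b) = t i a + t i b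
  y_mul : ∀ i, ∀ a ∈ U, ∀ b ∈ U, y i (a * b) = y i a + y i b
  law : ∀ i, ∀ j ∈ jR R, ∀ u ∈ U, x i ⁅j, u⁆ = t i j * y i u
  surj : ∀ v : ι → F, ∃ u ∈ U, ∀ i, y i u = v i
  ker : ∀ j ∈ jR R, (∀ i, t i j = 0) → j ∈ centralizer (U : Set G)
  sqC : ∀ i, ∀ q ∈ R, (∀ v : F, ∃ j ∈ jR R, t i j = v ∧ (∀ k, k ≠ i → t k j = 0) ∧ j * j = 1 ∧
    q * j = j * q) → q * q * f i = f i * (q * q)
  move : ∀ i, ∀ j ∈ jR R, t i j ≠ 0 → ¬ IsPGroup 2 ↥(closure ({j, f i * j * (f i)⁻¹} : Set G))
  trans : ∀ i k, ∃ g ∈ T, ∀ j ∈ jR R, t i j = 0 ↔ t k (g * j * g⁻¹) = 0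

/-- The subgroup generated by the squares of the elements of `Q`. -/
def sqSub (Q : Subgroup G) : Subgroup G := closure {x | ∃ q ∈ Q, q * q = x}

/-- The facts used about `M`, `T`, `R`, `Q` and `U`. -/
structure Base (M T R Q U : Subgroup G) : Prop where
  qR : Q ≤ R
  uQ : U ≤ Q
  uJ : U ≤ jR R
  uA : Cfsg.IsElementaryAbelian 2 U
  rU : R ≤ normalizer (U : Set G)
  cent : R ⊓ centralizer (U : Set G) ≤ Q
  centU : Q ≤ centralizer (U : Set G)
  self : R ⊓ centralizer (Q : Set G) ≤ Q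
  mR : M ≤ normalizer (R : Set G)
  tM : T ≤ M
  tQ : T ≤ normalizer (Q : Set G)
  odd : ¬ 2 ∣ T.relIndex M
  nonElem : sqSub Q ≠ ⊥ → ∃ z ∈ sqSub Q, ∃ O : Subgroup G, IsPGroup 2 O ∧ U ≤ O ∧
    centralizer ({z} : Set G) ≤ normalizer (O : Set G)

theorem card_conjS (A : Subgroup G) (g : G) : Nat.card ↥(conjS A g) = Nat.card A :=
  card_map_of_injective (MulAut.conj g).injective

theorem conjS_inf (A B : Subgroup G) (g : G) : conjS (A ⊓ B) g = conjS A g ⊓ conjS B g :=
  Subgroup.map_inf _ _ _ (MulAut.conj g).injective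

theorem conjS_centralizer (A : Subgroup G) (g : G) :
    conjS (centralizer (A : Set G)) g = centralizer (conjS A g : Set G) :=
  H62.Blocks.map_centralizer_equiv (MulAut.conj g) A

theorem conjS_mem {A : Subgroup G} {x : G} (h : x ∈ A) (g : G) : g * x * g⁻¹ ∈ conjS A g := by
  rw [mem_conjS]
  simpa [mul_assoc] using h

theorem conjS_inv_self (A : Subgroup G) (g : G) : conjS (conjS A g) g⁻¹ = A := by
  rw [conjS_conjS, inv_mul_cancel, conjS_one]

theorem comm_conj {q j : G} (θ : G) (h : θ * q * θ⁻¹ * (θ * j * θ⁻¹) = θ * j * θ⁻¹ * (θ * q * θ⁻¹)) :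
    q * j = j * q := by
  have h1 : θ * (q * j) * θ⁻¹ = θ * (j * q) * θ⁻¹ := by
    simpa [mul_assoc] using h
  exact mul_left_cancel (mul_right_cancel h1)

variable [Finite G] {M T R Q U : Subgroup G}

namespace Base

theorem conj_jR (b : Base M T R Q U) {g : G} (hg : g ∈ M) : conjS (jR R) g = jR R := by
  show (Cfsg.thompsonSubgroupOf 2 R).map _ = _
  rw [H31.conj_thompsonSubgroupOf, H31.map_conj_eq_of_mem_normalizer (b.mR hg)]

theorem conj_le_jR (b : Base M T R Q U) {A : Subgroup G} (hA : A ≤ jR R) {g : G} (hg : g ∈ M) : conjS A g ≤ jR R :=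
  (conjS_mono hA g).trans (b.conj_jR hg).le

theorem conj_le_R (b : Base M T R Q U) {A : Subgroup G} (hA : A ≤ R) {g : G} (hg : g ∈ M) : conjS A g ≤ R :=
  (conjS_mono hA g).trans (H31.map_conj_eq_of_mem_normalizer (b.mR hg)).le

end Base

namespace Sys

variable (S : Sys T R U)

instance : Fintype S.ι := S.fin
instance : Field S.F := S.field
instance : Fintype S.F := S.finF

/-- The order of the field. -/
noncomputable def q : ℕ := Nat.card S.F

theorem two_le_q : 2 ≤ S.q := Finite.one_lt_card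

theorem t_one (i : S.ι) : S.t i 1 = 0 := by
  have := S.t_mul i 1 (one_mem _) 1 (one_mem _)
  rw [one_mul] at this
  exact left_eq_add.mp this

theorem y_one (i : S.ι) : S.y i 1 = 0 := by
  have := S.y_mul i 1 (one_mem _) 1 (one_mem _)
  rw [one_mul] at this
  exact left_eq_add.mp this

theorem x_one (i : S.ι) : S.x i 1 = 0 := by
  have := S.law i 1 (one_mem _) 1 (one_mem _)
  rwa [commutatorElement_one_left, S.t_one, zero_mul] at this

theorem prod_eq_zero {i : S.ι} {j u : G} (hj : j ∈ jR R) (hu : u ∈ U) (h : j * u = u * j) :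
    S.t i j * S.y i u = 0 := by
  rw [← S.law i j hj u hu, commutatorElement_eq_one_iff_mul_comm.mpr h, S.x_one]

open Classical in
/-- The coordinates moved by `A`. -/
noncomputable def D (A : Subgroup G) : Finset S.ι := Finset.univ.filter fun i => ∃ a ∈ A, S.t i a ≠ 0

theorem mem_D {A : Subgroup G} {i : S.ι} : i ∈ S.D A ↔ ∃ a ∈ A, S.t i a ≠ 0 := by
  classical
  simp [D]

theorem t_eq_zero {A : Subgroup G} {i : S.ι} (hi : i ∉ S.D A) {a : G} (ha : a ∈ A) : S.t i a = 0 := by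
  by_contra h
  exact hi (S.mem_D.mpr ⟨a, ha, h⟩)

theorem le_cent_of_D_empty {A : Subgroup G} (hA : A ≤ jR R) (h : S.D A = ∅) :
    A ≤ centralizer (U : Set G) := fun a ha =>
  S.ker a (hA ha) fun i => S.t_eq_zero (A := A) (by simp [h]) ha

/-- All values occur. -/
def Full (A : Subgroup G) : Prop :=
  ∀ v : S.ι → S.F, (∀ i, i ∉ S.D A → v i = 0) → ∃ a ∈ A, ∀ i, S.t i a = v i

theorem card_le_aux {A : Subgroup G} (hA : A ≤ jR R) :
    Nat.card A ≤ Nat.card ↥(A ⊓ centralizer (U : Set G)) * S.q ^ (S.D A).card ∧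
      (Nat.card A = Nat.card ↥(A ⊓ centralizer (U : Set G)) * S.q ^ (S.D A).card → S.Full A) := by
  classical
  let φ : ↥A →* Multiplicative (↥(S.D A) → S.F) := MonoidHom.mk'
    (fun a => Multiplicative.ofAdd fun i => S.t i.1 a) fun a b => by
      rw [← ofAdd_add]
      exact congrArg _ (funext fun i => S.t_mul i.1 a (hA a.2) b (hA b.2))
  have hker : ∀ a : ↥A, φ a = 1 ↔ (a : G) ∈ A ⊓ centralizer (U : Set G) := by
    intro a
    constructor
    · intro h
      refine ⟨a.2, S.ker a (hA a.2) fun i => ?_⟩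
      by_cases hi : i ∈ S.D A
      · exact congrFun (Multiplicative.ofAdd.injective h :
          (fun i : ↥(S.D A) => S.t i.1 (a : G)) = 0) ⟨i, hi⟩
      · exact S.t_eq_zero hi a.2
    · intro h
      refine congrArg Multiplicative.ofAdd (funext fun i : ↥(S.D A) => ?_)
      obtain ⟨u, hu, hy⟩ := S.surj fun _ => 1
      simpa [hy] using S.prod_eq_zero (i := i.1) (hA a.2) hu
        (mem_centralizer_iff.mp h.2 u hu).symm
  have hcard : Nat.card A = Nat.card ↥(A ⊓ centralizer (U : Set G)) * Nat.card φ.range := by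
    rw [← H43.Blocks.relIndex_eq_card_range φ hker]
    have := Subgroup.relIndex_mul_relIndex (⊥ : Subgroup G) (A ⊓ centralizer (U : Set G)) A bot_le inf_le_left
    rw [relIndex_bot_left, relIndex_bot_left] at this
    exact this.symm
  have htot : Nat.card (Multiplicative (↥(S.D A) → S.F)) = S.q ^ (S.D A).card := by
    rw [Nat.card_congr Multiplicative.toAdd, Nat.card_fun, Nat.card_eq_fintype_card (α := ↥(S.D A)),
      Fintype.card_coe]
    rfl
  have hle : Nat.card φ.range ≤ S.q ^ (S.D A).card := by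
    rw [← htot]
    exact Nat.card_le_card_of_injective Subtype.val Subtype.val_injective
  refine ⟨hcard ▸ Nat.mul_le_mul_left _ hle, fun heq v hv => ?_⟩
  have hr : φ.range = ⊤ := eq_top_of_card_eq _ (by
    rw [htot]
    exact Nat.eq_of_mul_eq_mul_left Nat.card_pos (hcard.symm.trans heq))
  obtain ⟨a, ha⟩ := MonoidHom.range_eq_top.mp hr (Multiplicative.ofAdd fun i => v i.1)
  refine ⟨a, a.2, fun i => ?_⟩
  by_cases hi : i ∈ S.D A
  · exact congrFun (Multiplicative.ofAdd.injective ha :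
      (fun i : ↥(S.D A) => S.t i.1 (a : G)) = fun i => v i.1) ⟨i, hi⟩
  · rw [S.t_eq_zero hi a.2, hv i hi]

theorem cardU_aux {A : Subgroup G} (hA : A ≤ jR R) :
    Nat.card ↥(U ⊓ centralizer (A : Set G)) * S.q ^ (S.D A).card ≤ Nat.card U ∧
      (Nat.card ↥(U ⊓ centralizer (A : Set G)) * S.q ^ (S.D A).card = Nat.card U →
        ∀ u ∈ U, (∀ i ∈ S.D A, S.y i u = 0) → u ∈ centralizer (A : Set G)) := by
  classical
  let φ : ↥U →* Multiplicative (↥(S.D A) → S.F) := MonoidHom.mk'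
    (fun a => Multiplicative.ofAdd fun i => S.y i.1 a) fun a b => by
      rw [← ofAdd_add]
      exact congrArg _ (funext fun i => S.y_mul i.1 a a.2 b b.2)
  have hr : φ.range = ⊤ := MonoidHom.range_eq_top.mpr fun v => by
    obtain ⟨u, hu, hy⟩ := S.surj fun i => if h : i ∈ S.D A then Multiplicative.toAdd v ⟨i, h⟩ else 0
    refine ⟨⟨u, hu⟩, ?_⟩
    show Multiplicative.ofAdd (fun i : ↥(S.D A) => S.y i.1 u) = v
    apply Multiplicative.toAdd.injective
    rw [toAdd_ofAdd]
    funext i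
    rw [hy, dif_pos i.2]
  set K := φ.ker.map U.subtype
  have hK : ∀ u : ↥U, φ u = 1 ↔ (u : G) ∈ K := fun u =>
    ⟨fun h => ⟨u, h, rfl⟩, fun ⟨w, hw, he⟩ => by rwa [← Subtype.ext he]⟩
  have hcard : Nat.card U = Nat.card K * S.q ^ (S.D A).card := by
    have h1 := H43.Blocks.relIndex_eq_card_range φ hK
    have := Subgroup.relIndex_mul_relIndex (⊥ : Subgroup G) K U bot_le (map_subtype_le _)
    rw [relIndex_bot_left, relIndex_bot_left, h1, hr, card_top, Nat.card_congr Multiplicative.toAdd,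
      Nat.card_fun, Nat.card_eq_fintype_card (α := ↥(S.D A)), Fintype.card_coe] at this
    exact this.symm
  have hle : U ⊓ centralizer (A : Set G) ≤ K := fun u hu => (hK ⟨u, hu.1⟩).mp <|
    congrArg Multiplicative.ofAdd (funext fun i : ↥(S.D A) => by
      obtain ⟨a, ha, hne⟩ := S.mem_D.mp i.2
      exact (mul_eq_zero.mp (S.prod_eq_zero (i := i.1) (hA ha) hu.1
        (mem_centralizer_iff.mp hu.2 a ha))).resolve_left hne)
  refine ⟨hcard ▸ Nat.mul_le_mul_right _ (card_le_of_le hle), fun heq u hu hy => ?_⟩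
  have hqpos : 0 < S.q ^ (S.D A).card := pow_pos (by have := S.two_le_q; omega) _
  have hKe : U ⊓ centralizer (A : Set G) = K := eq_of_le_of_card_ge hle
    (Nat.eq_of_mul_eq_mul_right hqpos (heq.trans hcard)).ge
  have : (⟨u, hu⟩ : ↥U) ∈ φ.ker := congrArg Multiplicative.ofAdd (funext fun i : ↥(S.D A) => hy i.1 i.2)
  exact (hKe.ge ((hK ⟨u, hu⟩).mp this)).2

variable (b : Base M T R Q U)

include S b

/-- A conjugate of `U` outside `Q` and the inverse conjugate act as full products of root groups. -/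
theorem pair {θ : G} (hθ : θ ∈ M) (h : ¬ conjS U θ ≤ Q) :
    S.Full (conjS U θ⁻¹) ∧ (S.D (conjS U θ⁻¹)).Nonempty := by
  set A := conjS U θ
  set B := conjS U θ⁻¹
  have hA : A ≤ jR R := b.conj_le_jR b.uJ hθ
  have hB : B ≤ jR R := b.conj_le_jR b.uJ (inv_mem hθ)
  have hcB : Nat.card B = Nat.card U := card_conjS _ _
  have e1 : conjS (B ⊓ centralizer (U : Set G)) θ = U ⊓ centralizer (A : Set G) := by
    rw [conjS_inf, conjS_centralizer]
    congr 1
    show conjS (conjS U θ⁻¹) θ = U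
    rw [conjS_conjS, mul_inv_cancel, conjS_one]
  have e2 : conjS (A ⊓ centralizer (U : Set G)) θ⁻¹ = U ⊓ centralizer (B : Set G) := by
    rw [conjS_inf, conjS_centralizer, conjS_inv_self]
  have c1 := (congrArg (fun X : Subgroup G => Nat.card X) e1).symm.trans (card_conjS _ _)
  have c2 := (congrArg (fun X : Subgroup G => Nat.card X) e2).symm.trans (card_conjS _ _)
  obtain ⟨hB1, hBfull⟩ := S.card_le_aux hB
  obtain ⟨hA1, -⟩ := S.card_le_aux hA
  have hA2 := (S.cardU_aux hA).1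
  have hB2 := (S.cardU_aux hB).1
  rw [c1] at hA2
  rw [c2] at hB2
  rw [hcB] at hB1 hBfull
  rw [card_conjS] at hA1
  have hpos : 1 < S.q := S.two_le_q
  have hab : (S.D A).card ≤ (S.D B).card := (Nat.pow_le_pow_iff_right hpos).mp
    (Nat.le_of_mul_le_mul_left (hA2.trans hB1) Nat.card_pos)
  have hba : (S.D B).card ≤ (S.D A).card := (Nat.pow_le_pow_iff_right hpos).mp
    (Nat.le_of_mul_le_mul_left (hB2.trans hA1) Nat.card_pos)
  refine ⟨hBfull (le_antisymm hB1 (le_antisymm hab hba ▸ hA2)), ?_⟩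
  rw [← Finset.card_pos]
  refine lt_of_lt_of_le (Finset.card_pos.mpr ?_) hab
  by_contra h0
  exact h fun a ha => b.cent ⟨b.conj_le_R (b.uQ.trans b.qR) hθ ha,
    S.le_cent_of_D_empty hA (Finset.not_nonempty_iff_eq_empty.mp h0) ha⟩

/-- If some conjugate of `U` is outside `Q` then `Q` is elementary. -/
theorem sq_one {θ : G} (hθ : θ ∈ M) (h : ¬ conjS U θ ≤ Q) : ∀ q ∈ Q, q * q = 1 := by
  classical
  intro q₀ hq₀
  by_contra hne
  obtain ⟨hfull, i, hi⟩ := S.pair b hθ h
  obtain ⟨z, hz, O, hO, hUO, hzO⟩ := b.nonElem fun h0 =>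
    hne (mem_bot.mp (h0 ▸ subset_closure ⟨q₀, hq₀, rfl⟩))
  have hkey : ∀ y ∈ sqSub Q, (θ⁻¹ * y * θ) * S.f i = S.f i * (θ⁻¹ * y * θ) := by
    intro y hy
    refine closure_induction (fun x hx => ?_) (by simp) (fun a c _ _ ha hc => ?_) (fun a _ ha => ?_) hy
    · obtain ⟨q, hq, rfl⟩ := hx
      have h1 := S.sqC i (θ⁻¹ * q * θ) (by
        simpa using b.conj_le_R b.qR (inv_mem hθ) (conjS_mem hq θ⁻¹)) (fun v => ?_)
      · simpa [mul_assoc] using h1
      obtain ⟨j, hj, hjv⟩ := hfull (fun k => if k = i then v else 0) fun k hk => by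
        rw [if_neg]; rintro rfl; exact hk hi
      have hju : θ * j * θ⁻¹ ∈ U := by
        have := mem_conjS.mp hj
        simpa using this
      refine ⟨j, b.conj_le_jR b.uJ (inv_mem hθ) hj, by simpa using hjv i,
        fun k hk => by simpa [hk] using hjv k, ?_, comm_conj θ ?_⟩
      · have h2 := b.uA.2 _ hju
        rw [sq] at h2
        have h3 : θ * (j * j) * θ⁻¹ = 1 := by rw [← h2]; simp [mul_assoc]
        simpa [mul_inv_eq_one] using h3
      · simpa [mul_assoc] using (mem_centralizer_iff.mp (b.centU hq) _ hju).symm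
    · calc θ⁻¹ * (a * c) * θ * S.f i = θ⁻¹ * a * θ * (θ⁻¹ * c * θ * S.f i) := by group
        _ = θ⁻¹ * a * θ * S.f i * (θ⁻¹ * c * θ) := by rw [hc]; group
        _ = _ := by rw [ha]; group
    · have := (Commute.inv_left (show Commute (θ⁻¹ * a * θ) (S.f i) from ha)).eq
      simpa [mul_assoc] using this
  obtain ⟨j, hj, hjne⟩ := S.mem_D.mp hi
  refine S.move i j (b.conj_le_jR b.uJ (inv_mem hθ) hj) hjne ?_
  have hO' : IsPGroup 2 ↥(conjS O θ⁻¹) := hO.map _
  have hjO : j ∈ conjS O θ⁻¹ := conjS_mono hUO _ hj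
  refine hO'.to_le ((closure_le _).mpr ?_)
  rintro x (rfl | rfl)
  · exact hjO
  have hf : θ * S.f i * θ⁻¹ ∈ normalizer (O : Set G) := hzO (mem_centralizer_singleton_iff.mpr (by
    calc θ * S.f i * θ⁻¹ * z = θ * (S.f i * (θ⁻¹ * z * θ)) * θ⁻¹ := by group
      _ = z * (θ * S.f i * θ⁻¹) := by rw [← hkey z hz]; group))
  show S.f i * j * (S.f i)⁻¹ ∈ conjS O θ⁻¹
  have hju : θ * j * θ⁻¹ ∈ O := by
    have := mem_conjS.mp hjO
    simpa using this
  rw [mem_conjS, inv_inv]
  have := (mem_normalizer_iff.mp hf _).mp hju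
  simpa [mul_assoc] using this

/-- The facts about a conjugate of `Q`. -/
theorem orbit_facts (hQ : Cfsg.IsElementaryAbelian 2 Q) {A : Subgroup G}
    (hAJ : A ≤ jR R) (hA : Cfsg.IsElementaryAbelian 2 A) (hcard : Nat.card A = Nat.card Q)
    (hself : R ⊓ centralizer (A : Set G) ≤ A) :
    A ⊓ centralizer (U : Set G) = A ⊓ Q ∧ S.Full A ∧
      Nat.card Q = Nat.card ↥(A ⊓ Q) * S.q ^ (S.D A).card ∧ U ⊔ (A ⊓ Q) = Q ∧
      ∀ u ∈ U, (∀ i ∈ S.D A, S.y i u = 0) → u ∈ A := by
  have hAR : A ≤ R := hAJ.trans (H31.thompsonSubgroupOf_le 2 R)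
  have e1 : A ⊓ centralizer (U : Set G) = A ⊓ Q := le_antisymm
    (le_inf inf_le_left fun a ha => b.cent ⟨hAR ha.1, ha.2⟩) (inf_le_inf_left _ b.centU)
  have e2 : U ⊓ centralizer (A : Set G) = U ⊓ A := le_antisymm
    (le_inf inf_le_left fun a ha => hself ⟨b.qR (b.uQ ha.1), ha.2⟩)
    fun a ha => ⟨ha.1, mem_centralizer_iff.mpr fun c hc => H31.elem_comm hA hc ha.2⟩
  obtain ⟨h1, hfull⟩ := S.card_le_aux hAJ
  obtain ⟨h2, hyD⟩ := S.cardU_aux hAJ
  rw [e1] at h1 hfull
  rw [e2] at h2 hyD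
  have h3 := H31.FF.card_sup_mul_card_inf (A := U) (B := A ⊓ Q) fun a ha => centralizer_le_normalizer _
    (mem_centralizer_iff.mpr fun u hu => H31.elem_comm hQ (b.uQ hu) ha.2)
  have e3 : U ⊓ (A ⊓ Q) = U ⊓ A := le_antisymm (inf_le_inf_left _ inf_le_left)
    (le_inf inf_le_left (le_inf inf_le_right (inf_le_left.trans b.uQ)))
  rw [e3] at h3
  have hle : Nat.card ↥(U ⊔ (A ⊓ Q)) ≤ Nat.card Q := card_le_of_le (sup_le b.uQ inf_le_right)
  rw [hcard] at h1 hfull
  set n := S.q ^ (S.D A).card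
  set a0 := Nat.card ↥(A ⊓ Q) with ha0
  set w := Nat.card ↥(U ⊓ A) with hw
  have k1 : Nat.card Q * w ≤ a0 * n * w := Nat.mul_le_mul_right _ h1
  have k2 : a0 * n * w ≤ a0 * Nat.card U := by
    rw [mul_assoc, mul_comm n]; exact Nat.mul_le_mul_left _ h2
  have k3 : a0 * Nat.card U = Nat.card ↥(U ⊔ (A ⊓ Q)) * w := by rw [h3, mul_comm]
  have k4 : Nat.card ↥(U ⊔ (A ⊓ Q)) * w ≤ Nat.card Q * w := Nat.mul_le_mul_right _ hle
  have hwp : 0 < w := Nat.card_pos
  have hap : 0 < a0 := Nat.card_pos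
  have q1 : Nat.card Q = a0 * n := Nat.eq_of_mul_eq_mul_right hwp (by omega)
  have q2 : Nat.card ↥(U ⊔ (A ⊓ Q)) = Nat.card Q := Nat.eq_of_mul_eq_mul_right hwp (by omega)
  have q3 : w * n = Nat.card U := by
    refine Nat.eq_of_mul_eq_mul_left hap ?_
    have : a0 * (w * n) = a0 * n * w := by ring
    omega
  refine ⟨e1, hfull q1, q1, eq_of_le_of_card_ge (sup_le b.uQ inf_le_right) q2.ge,
    fun u hu hy => hself ⟨b.qR (b.uQ hu), hyD q3 u hu hy⟩⟩

/-- The order of the intersection of two members. -/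
theorem card_inf (hQ : Cfsg.IsElementaryAbelian 2 Q) {A B : Subgroup G}
    (hAJ : A ≤ jR R) (hA : Cfsg.IsElementaryAbelian 2 A) (hcA : Nat.card A = Nat.card Q)
    (hsA : R ⊓ centralizer (A : Set G) ≤ A)
    (hBJ : B ≤ jR R) (hB : Cfsg.IsElementaryAbelian 2 B) (hcB : Nat.card B = Nat.card Q)
    (hsB : R ⊓ centralizer (B : Set G) ≤ B) [DecidableEq S.ι] :
    Nat.card ↥(A ⊓ B) * S.q ^ ((S.D A).card + (S.D B).card) =
      Nat.card Q * S.q ^ (2 * (S.D A ∩ S.D B).card) := by
  classical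
  obtain ⟨eA, fA, cA, gA, yA⟩ := S.orbit_facts b hQ hAJ hA hcA hsA
  obtain ⟨eB, fB, cB, gB, yB⟩ := S.orbit_facts b hQ hBJ hB hcB hsB
  set I := S.D A ∩ S.D B
  -- splitting
  have split : ∀ u ∈ U, (∀ i ∈ I, S.y i u = 0) →
      ∃ u₁ ∈ U, ∃ u₂ ∈ U, u₁ ∈ A ∧ u₂ ∈ B ∧ u₁ * u₂ = u := by
    intro u hu hy
    obtain ⟨u₁, hu₁, hy₁⟩ := S.surj fun i => if i ∈ S.D A then 0 else S.y i u
    have hu₂ : u₁⁻¹ * u ∈ U := mul_mem (inv_mem hu₁) hu
    refine ⟨u₁, hu₁, _, hu₂, yA u₁ hu₁ fun i hi => by rw [hy₁, if_pos hi],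
      yB _ hu₂ fun i hi => ?_, mul_inv_cancel_left _ _⟩
    have h1 := S.y_mul i u₁ hu₁ _ hu₂
    rw [mul_inv_cancel_left, hy₁] at h1
    by_cases hiA : i ∈ S.D A
    · rw [if_pos hiA, zero_add, hy i (Finset.mem_inter.mpr ⟨hiA, hi⟩)] at h1
      exact h1.symm
    · rw [if_neg hiA, left_eq_add] at h1
      exact h1
  -- equal coordinates
  have same : ∀ a ∈ A, ∀ c ∈ B, (∀ i, S.t i a = S.t i c) → ∃ a' ∈ A, ∃ u ∈ U, a' * u = c ∧
      (∀ i, S.t i a' = S.t i a) ∧ a' * u = u * a' := by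
    intro a ha c hc hac
    have hd : a⁻¹ * c ∈ jR R := mul_mem (inv_mem (hAJ ha)) (hBJ hc)
    have hdQ : a⁻¹ * c ∈ Q := b.cent ⟨H31.thompsonSubgroupOf_le 2 R hd, S.ker _ hd fun i => by
      have h1 := S.t_mul i a (hAJ ha) _ hd
      rw [mul_inv_cancel_left, hac] at h1
      exact left_eq_add.mp h1⟩
    rw [← gA, sup_comm] at hdQ
    obtain ⟨z, hz, u, hu, hzu⟩ := Set.mem_mul.mp ((coe_mul_of_left_le_normalizer_right (A ⊓ Q) U
      fun x hx => centralizer_le_normalizer _
        (mem_centralizer_iff.mpr fun w hw => H31.elem_comm hQ (b.uQ hw) hx.2)).le hdQ)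
    have hcz : a * z * u = c := by
      rw [mul_assoc, hzu, mul_inv_cancel_left]
    have hmA : a * z ∈ A := mul_mem ha hz.1
    refine ⟨a * z, hmA, u, hu, hcz, fun i => ?_, ?_⟩
    · rw [S.t_mul i a (hAJ ha) z (hAJ hz.1), add_eq_left]
      have hzC : z ∈ centralizer (U : Set G) := b.centU hz.2
      obtain ⟨w, hw, hy⟩ := S.surj fun _ => 1
      simpa [hy] using S.prod_eq_zero (i := i) (hAJ hz.1) hw (mem_centralizer_iff.mp hzC w hw).symm
    · have h1 : c * c = 1 := by rw [← sq]; exact hB.2 c hc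
      have h2 : a * z * (a * z) = 1 := by rw [← sq]; exact hA.2 _ hmA
      have h3 : u * u = 1 := by rw [← sq]; exact b.uA.2 u hu
      rw [← hcz] at h1
      calc a * z * u = (a * z * u) * ((a * z * u) * (a * z * u))⁻¹ := by rw [h1]; simp
        _ = u⁻¹ * (a * z)⁻¹ := by group
        _ = u * (a * z) := by rw [inv_eq_of_mul_eq_one_right h3, inv_eq_of_mul_eq_one_right h2]
  -- common lifts
  have common : ∀ v : S.ι → S.F, (∀ i, i ∉ I → v i = 0) → ∃ a ∈ A ⊓ B, ∀ i, S.t i a = v i := by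
    intro v hv
    have lift : ∀ w : S.ι → S.F, (∀ i, i ∉ I → w i = 0) → ∃ a ∈ A, ∃ u ∈ U, a * u ∈ B ∧
        (∀ i, S.t i a = w i) ∧ a * u = u * a := by
      intro w hw
      obtain ⟨a, ha, hav⟩ := fA w fun i hi => hw i fun h => hi (Finset.mem_inter.mp h).1
      obtain ⟨c, hc, hcv⟩ := fB w fun i hi => hw i fun h => hi (Finset.mem_inter.mp h).2
      obtain ⟨a', ha', u, hu, he, hta, hcm⟩ := same a ha c hc fun i => by rw [hav, hcv]
      exact ⟨a', ha', u, hu, he ▸ hc, fun i => (hta i).trans (hav i), hcm⟩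
    obtain ⟨a, ha, u, hu, hau, hta, hcm⟩ := lift v hv
    obtain ⟨u₁, hu₁, u₂, hu₂, h1A, h2B, h12⟩ := split u hu fun i hi => by
      by_cases hvi : v i = 0
      swap
      · have := S.prod_eq_zero (i := i) (hAJ ha) hu hcm
        rw [hta] at this
        exact (mul_eq_zero.mp this).resolve_left hvi
      obtain ⟨a', ha', u', hu', hau', hta', hcm'⟩ := lift (fun k => if k = i then 1 else 0)
        fun k hk => by rw [if_neg]; rintro rfl; exact hk hi
      have h4 : (a * u) * (a' * u') = (a' * u') * (a * u) := H31.elem_comm hB hau hau'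
      have h5 : ⁅a, u'⁆ = ⁅a', u⁆ := by
        have sa : a * a = 1 := (sq a).symm.trans (hA.2 a ha)
        have sa' : a' * a' = 1 := (sq a').symm.trans (hA.2 a' ha')
        have su : u * u = 1 := (sq u).symm.trans (b.uA.2 u hu)
        have su' : u' * u' = 1 := (sq u').symm.trans (b.uA.2 u' hu')
        have hv : a' * u * a' ∈ U := by
          have := (mem_normalizer_iff.mp (b.rU (H31.thompsonSubgroupOf_le 2 R (hAJ ha'))) u).mp hu
          rwa [inv_eq_of_mul_eq_one_right sa'] at this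
        rw [commutatorElement_def, commutatorElement_def, inv_eq_of_mul_eq_one_right sa,
          inv_eq_of_mul_eq_one_right sa', inv_eq_of_mul_eq_one_right su,
          inv_eq_of_mul_eq_one_right su']
        have e1 : u * (a * a') * u' = u' * (a * a') * u := by
          calc u * (a * a') * u' = (u * a) * (a' * u') := by group
            _ = (a' * u') * (a * u) := by rw [← hcm, h4]
            _ = (u' * a') * (a * u) := by rw [hcm']
            _ = u' * (a' * a) * u := by group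
            _ = _ := by rw [H31.elem_comm hA ha' ha]
        have e2 : (u' * u) * (a * a') = (a * a') * (u' * u) := by
          have h6 : u' * (u * (a * a') * u') * u' = u' * (u' * (a * a') * u) * u' := by rw [e1]
          calc (u' * u) * (a * a') = u' * (u * (a * a') * u') * u' := by
                simp only [mul_assoc, su', mul_one]
            _ = (u' * u') * (a * a') * (u * u') := by rw [h6]; group
            _ = _ := by rw [su', one_mul, H31.elem_comm b.uA hu hu']
        have e3 : a * u' * a * u = u' * (a' * u * a') := by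
          have h6 : a * (u' * u * (a * a')) * a' = a * (a * a' * (u' * u)) * a' := by rw [e2]
          calc a * u' * a * u = a * (u' * (a * u)) := by group
            _ = a * (u' * u * (a * a')) * a' := by rw [hcm]; simp only [mul_assoc, sa', mul_one]
            _ = (a * a) * ((a' * u') * (u * a')) := by rw [h6]; group
            _ = _ := by rw [sa, one_mul, hcm']; group
        calc a * u' * a * u' = (a * u' * a * u) * (u * u') := by
              simp only [mul_assoc]; rw [← mul_assoc u u, su, one_mul]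
          _ = (a' * u * a') * u' * (u' * u) := by
              rw [e3, H31.elem_comm b.uA hu' hv, H31.elem_comm b.uA hu hu']
          _ = a' * u * a' * u := by simp only [mul_assoc]; rw [← mul_assoc u' u', su', one_mul]
      have h7 := congrArg (S.x i) h5
      rw [S.law i a (hAJ ha) u' hu', S.law i a' (hAJ ha') u hu, hta, hvi, zero_mul, hta',
        if_pos rfl, one_mul] at h7
      exact h7.symm
    have hmA : a * u₁ ∈ A := mul_mem ha h1A
    refine ⟨a * u₁, ⟨hmA, ?_⟩, fun i => ?_⟩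
    · have : a * u₁ = a * u * u₂⁻¹ := by rw [← h12]; group
      rw [this]
      exact B.mul_mem hau (B.inv_mem h2B)
    · rw [S.t_mul i a (hAJ ha) u₁ (b.uJ hu₁), hta, add_eq_left]
      obtain ⟨w, hw, hy⟩ := S.surj fun _ => 1
      simpa [hy] using S.prod_eq_zero (i := i) (b.uJ hu₁) hw (H31.elem_comm b.uA hu₁ hw)
  -- the image of the intersection
  have hDI : S.D (A ⊓ B) = I := by
    refine Finset.ext fun i => ⟨fun hi => ?_, fun hi => ?_⟩
    · obtain ⟨a, ha, hne⟩ := S.mem_D.mp hi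
      exact Finset.mem_inter.mpr ⟨S.mem_D.mpr ⟨a, ha.1, hne⟩, S.mem_D.mpr ⟨a, ha.2, hne⟩⟩
    · obtain ⟨a, ha, hta⟩ := common (fun k => if k = i then 1 else 0) fun k hk => by
        rw [if_neg]; rintro rfl; exact hk hi
      exact S.mem_D.mpr ⟨a, ha, by simp [hta]⟩
  have cI : Nat.card ↥(A ⊓ B) = Nat.card ↥(A ⊓ Q ⊓ (B ⊓ Q)) * S.q ^ I.card := by
    have e : (A ⊓ B) ⊓ centralizer (U : Set G) = A ⊓ Q ⊓ (B ⊓ Q) := by
      rw [← eA, ← eB]
      exact le_antisymm (le_inf (inf_le_inf_right _ inf_le_left) (inf_le_inf_right _ inf_le_right))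
        (le_inf (inf_le_inf inf_le_left inf_le_left) (inf_le_left.trans inf_le_right))
    let φ : ↥(A ⊓ B) →* Multiplicative (↥I → S.F) := MonoidHom.mk'
      (fun a => Multiplicative.ofAdd fun i => S.t i.1 a) fun a c => by
        rw [← ofAdd_add]
        exact congrArg _ (funext fun i => S.t_mul i.1 a (hAJ a.2.1) c (hAJ c.2.1))
    have hr : φ.range = ⊤ := MonoidHom.range_eq_top.mpr fun v => by
      obtain ⟨a, ha, hta⟩ := common (fun i => if h : i ∈ I then Multiplicative.toAdd v ⟨i, h⟩ else 0)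
        fun i hi => dif_neg hi
      refine ⟨⟨a, ha⟩, Multiplicative.toAdd.injective ?_⟩
      show (fun i : ↥I => S.t i.1 a) = _
      funext i
      rw [hta, dif_pos i.2]
    have hker : ∀ a : ↥(A ⊓ B), φ a = 1 ↔ (a : G) ∈ A ⊓ Q ⊓ (B ⊓ Q) := fun a => by
      rw [← e]
      refine ⟨fun h => ⟨a.2, S.ker a (hAJ a.2.1) fun i => ?_⟩, fun h => ?_⟩
      · by_cases hi : i ∈ I
        · exact congrFun (Multiplicative.ofAdd.injective h :
            (fun i : ↥I => S.t i.1 (a : G)) = 0) ⟨i, hi⟩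
        · exact S.t_eq_zero (hDI ▸ hi) a.2
      · refine congrArg Multiplicative.ofAdd (funext fun i : ↥I => ?_)
        obtain ⟨w, hw, hy⟩ := S.surj fun _ => 1
        simpa [hy] using S.prod_eq_zero (i := i.1) (hAJ a.2.1) hw
          (mem_centralizer_iff.mp h.2 w hw).symm
    have := Subgroup.relIndex_mul_relIndex (⊥ : Subgroup G) (A ⊓ Q ⊓ (B ⊓ Q)) (A ⊓ B) bot_le
      (inf_le_inf inf_le_left inf_le_left)
    rw [relIndex_bot_left, relIndex_bot_left, H43.Blocks.relIndex_eq_card_range φ hker, hr, card_top,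
      Nat.card_congr Multiplicative.toAdd, Nat.card_fun, Nat.card_eq_fintype_card (α := ↥I),
      Fintype.card_coe] at this
    exact this.symm
  -- the join of the two centralizers
  set Y := A ⊓ Q ⊔ B ⊓ Q
  have cY := H31.FF.card_sup_mul_card_inf (A := A ⊓ Q) (B := B ⊓ Q) fun a ha => centralizer_le_normalizer _
    (mem_centralizer_iff.mpr fun u hu => H31.elem_comm hQ hu.2 ha.2)
  have hYQ : Y ≤ Q := sup_le inf_le_right inf_le_right
  have hUY : U ⊔ Y = Q := le_antisymm (sup_le b.uQ hYQ)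
    (gA.ge.trans (sup_le_sup_left le_sup_left _))
  have cY' : Nat.card Q = Nat.card Y * S.q ^ I.card := by
    let φ : ↥U →* Multiplicative (↥I → S.F) := MonoidHom.mk'
      (fun a => Multiplicative.ofAdd fun i => S.y i.1 a) fun a c => by
        rw [← ofAdd_add]
        exact congrArg _ (funext fun i => S.y_mul i.1 a a.2 c c.2)
    have hr : φ.range = ⊤ := MonoidHom.range_eq_top.mpr fun v => by
      obtain ⟨u, hu, hy⟩ := S.surj fun i => if h : i ∈ I then Multiplicative.toAdd v ⟨i, h⟩ else 0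
      refine ⟨⟨u, hu⟩, Multiplicative.toAdd.injective ?_⟩
      show (fun i : ↥I => S.y i.1 u) = _
      funext i
      rw [hy, dif_pos i.2]
    have hker : ∀ u : ↥U, φ u = 1 ↔ (u : G) ∈ U ⊓ Y := by
      intro u
      constructor
      · intro h
        obtain ⟨u₁, hu₁, u₂, hu₂, h1, h2, h12⟩ := split u u.2 fun i hi =>
          congrFun (Multiplicative.ofAdd.injective h : (fun i : ↥I => S.y i.1 (u : G)) = 0) ⟨i, hi⟩
        exact ⟨u.2, h12 ▸ mul_mem (mem_sup_left ⟨h1, b.uQ hu₁⟩) (mem_sup_right ⟨h2, b.uQ hu₂⟩)⟩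
      · intro h
        obtain ⟨c, hc, d, hd, hcd⟩ := Set.mem_mul.mp ((coe_mul_of_left_le_normalizer_right (A ⊓ Q) (B ⊓ Q)
          fun x hx => centralizer_le_normalizer _
            (mem_centralizer_iff.mpr fun w hw => H31.elem_comm hQ hw.2 hx.2)).le h.2)
        refine congrArg Multiplicative.ofAdd (funext fun i : ↥I => ?_)
        obtain ⟨a, ha, hta⟩ := common (fun k => if k = i.1 then 1 else 0) fun k hk => by
          rw [if_neg]; rintro rfl; exact hk i.2
        have hcm : a * (u : G) = u * a := by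
          rw [← hcd, ← mul_assoc, H31.elem_comm hA ha.1 hc.1, mul_assoc, H31.elem_comm hB ha.2 hd.1,
            mul_assoc]
        simpa [hta] using S.prod_eq_zero (i := i.1) (hAJ ha.1) u.2 hcm
    have h5 := Subgroup.relIndex_mul_relIndex (⊥ : Subgroup G) (U ⊓ Y) U bot_le inf_le_left
    rw [relIndex_bot_left, relIndex_bot_left, H43.Blocks.relIndex_eq_card_range φ hker, hr, card_top,
      Nat.card_congr Multiplicative.toAdd, Nat.card_fun, Nat.card_eq_fintype_card (α := ↥I),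
      Fintype.card_coe] at h5
    have h6 := H31.FF.card_sup_mul_card_inf (A := U) (B := Y) fun a ha => centralizer_le_normalizer _
      (mem_centralizer_iff.mpr fun u hu => H31.elem_comm hQ (b.uQ hu) (hYQ ha))
    rw [hUY, ← h5] at h6
    refine Nat.eq_of_mul_eq_mul_right (Nat.card_pos (α := ↥(U ⊓ Y))) (h6.trans ?_)
    show Nat.card ↥(U ⊓ Y) * S.q ^ I.card * Nat.card Y = _
    ring
  rw [cI, pow_add, two_mul, pow_add]
  refine Nat.eq_of_mul_eq_mul_left (Nat.card_pos (α := ↥Y)) ?_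
  calc Nat.card Y * (Nat.card ↥(A ⊓ Q ⊓ (B ⊓ Q)) * S.q ^ I.card * (S.q ^ (S.D A).card * S.q ^ (S.D B).card))
      = Nat.card Y * Nat.card ↥(A ⊓ Q ⊓ (B ⊓ Q)) * S.q ^ (S.D A).card * S.q ^ (S.D B).card * S.q ^ I.card := by ring
    _ = (Nat.card ↥(A ⊓ Q) * S.q ^ (S.D A).card) * (Nat.card ↥(B ⊓ Q) * S.q ^ (S.D B).card) * S.q ^ I.card := by
        rw [cY]; ring
    _ = Nat.card Q * Nat.card Q * S.q ^ I.card := by rw [← cA, ← cB]
    _ = _ := by rw [cY']; ring

/-- Every conjugate of `U` under `M` lies in `Q`. -/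
theorem conj_le : ∀ θ ∈ M, conjS U θ ≤ Q := by
  classical
  intro θ₀ hθ₀
  by_contra h0
  have hsq := S.sq_one b hθ₀ h0
  have hQ : Cfsg.IsElementaryAbelian 2 Q := by
    refine H31.elem_mk (fun x hx y hy => ?_) fun x hx => by rw [sq]; exact hsq x hx
    have hx' := inv_eq_of_mul_eq_one_right (hsq x hx)
    have hy' := inv_eq_of_mul_eq_one_right (hsq y hy)
    calc x * y = (x * y)⁻¹ := (inv_eq_of_mul_eq_one_right (hsq _ (mul_mem hx hy))).symm
      _ = y * x := by rw [mul_inv_rev, hx', hy']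
  -- `Q` is a largest elementary subgroup
  have hQJ : Q ≤ jR R := by
    obtain ⟨A, hA⟩ := H31.exists_maxIn 2 R
    refine H31.le_thompsonSubgroupOf ⟨b.qR, hQ, fun B hBR hBe => (hA.2.2 B hBR hBe).trans ?_⟩
    have hAJ : A ≤ jR R := H31.le_thompsonSubgroupOf hA
    have e1 : A ⊓ centralizer (U : Set G) = A ⊓ Q := le_antisymm
      (le_inf inf_le_left fun a ha => b.cent ⟨hA.1 ha.1, ha.2⟩) (inf_le_inf_left _ b.centU)
    have e2 : U ⊓ centralizer (A : Set G) = U ⊓ (A ⊓ Q) := by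
      refine le_antisymm (fun u hu => ⟨hu.1, ?_, b.uQ hu.1⟩)
        fun u hu => ⟨hu.1, mem_centralizer_iff.mpr fun c hc => H31.elem_comm hA.2.1 hc hu.2.1⟩
      have hel : Cfsg.IsElementaryAbelian 2 (A ⊔ zpowers u : Subgroup G) := by
        rw [zpowers_eq_closure, sup_eq_closure, Set.union_comm]
        rw [show (↑(closure ({u} : Set G)) ∪ (A : Set G)) = ↑(closure ({u} : Set G)) ∪ (A : Set G) from rfl]
        refine H31.elem_closure ?_ ?_
        · have hu' : ∀ x ∈ closure ({u} : Set G), x ∈ U ⊓ centralizer (A : Set G) := fun x hx =>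
            (closure_le _).mpr (Set.singleton_subset_iff.mpr hu) hx
          rintro x (hx | hx) y (hy | hy)
          · exact H31.elem_comm b.uA (hu' x hx).1 (hu' y hy).1
          · exact (mem_centralizer_iff.mp (hu' x hx).2 y hy).symm
          · exact mem_centralizer_iff.mp (hu' y hy).2 x hx
          · exact H31.elem_comm hA.2.1 hx hy
        · rintro x (hx | hx)
          · exact b.uA.2 x ((closure_le U).mpr (Set.singleton_subset_iff.mpr hu.1) hx)
          · exact hA.2.1.2 x hx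
      have heq := eq_of_le_of_card_ge (le_sup_left : A ≤ A ⊔ zpowers u)
        (hA.2.2 _ (sup_le hA.1 (zpowers_le.mpr (b.qR (b.uQ hu.1)))) hel)
      rw [heq]
      exact mem_sup_right (mem_zpowers u)
    have h1 := (S.card_le_aux hAJ).1
    have h2 := (S.cardU_aux hAJ).1
    rw [e1] at h1
    rw [e2] at h2
    have h3 := H31.FF.card_sup_mul_card_inf (A := U) (B := A ⊓ Q) fun a ha => centralizer_le_normalizer _
      (mem_centralizer_iff.mpr fun u hu => H31.elem_comm hQ (b.uQ hu) ha.2)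
    refine Nat.le_of_mul_le_mul_right (le_trans ?_ (Nat.mul_le_mul_right _
      (card_le_of_le (sup_le b.uQ inf_le_right : U ⊔ (A ⊓ Q) ≤ Q)))) (Nat.card_pos (α := ↥(U ⊓ (A ⊓ Q))))
    rw [h3]
    calc Nat.card A * Nat.card ↥(U ⊓ (A ⊓ Q))
        ≤ Nat.card ↥(A ⊓ Q) * S.q ^ (S.D A).card * Nat.card ↥(U ⊓ (A ⊓ Q)) := Nat.mul_le_mul_right _ h1
      _ = Nat.card ↥(A ⊓ Q) * (Nat.card ↥(U ⊓ (A ⊓ Q)) * S.q ^ (S.D A).card) := by ring
      _ ≤ Nat.card ↥(A ⊓ Q) * Nat.card U := Nat.mul_le_mul_left _ h2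
      _ = _ := mul_comm _ _
  -- the orbit
  haveI : Fintype ↥M := Fintype.ofFinite _
  set O : Finset (Subgroup G) := Finset.univ.image fun θ : ↥M => conjS Q (θ : G) with hOdef
  have hmem : ∀ {A}, A ∈ O ↔ ∃ θ ∈ M, conjS Q θ = A := by
    intro A
    simp [hOdef]
  have hQO : Q ∈ O := hmem.mpr ⟨1, one_mem _, conjS_one Q⟩
  have hfacts : ∀ A ∈ O, A ≤ jR R ∧ Cfsg.IsElementaryAbelian 2 A ∧ Nat.card A = Nat.card Q ∧
      R ⊓ centralizer (A : Set G) ≤ A := by
    intro A hA
    obtain ⟨θ, hθ, rfl⟩ := hmem.mp hA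
    refine ⟨b.conj_le_jR hQJ hθ, (H31.elem_map_iff (MulAut.conj θ).injective).mpr hQ, card_conjS _ _, ?_⟩
    conv_lhs => rw [← H31.map_conj_eq_of_mem_normalizer (b.mR hθ)]
    show conjS R θ ⊓ centralizer (conjS Q θ : Set G) ≤ _
    rw [← conjS_centralizer, ← conjS_inf]
    exact conjS_mono b.self θ
  have hclosed : ∀ θ ∈ M, ∀ A ∈ O, conjS A θ ∈ O := by
    intro θ hθ A hA
    obtain ⟨η, hη, rfl⟩ := hmem.mp hA
    exact hmem.mpr ⟨θ * η, mul_mem hθ hη, (conjS_conjS Q η θ).symm⟩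
  have hinjc : ∀ θ : G, Function.Injective fun A : Subgroup G => conjS A θ := fun θ A B h => by
    have := congrArg (fun X : Subgroup G => conjS X θ⁻¹) h
    simpa [conjS_inv_self] using this
  have hperm : ∀ θ ∈ M, O.image (fun A => conjS A θ) = O := fun θ hθ =>
    Finset.eq_of_subset_of_card_le (Finset.image_subset_iff.mpr fun A hA => hclosed θ hθ A hA)
      (Finset.card_image_of_injective _ (hinjc θ)).ge
  have hoddN : Odd O.card := by
    set St := (normalizer (Q : Set G)).subgroupOf M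
    have hcard : O.card = St.index := by
      rw [Subgroup.index_eq_card, ← Nat.card_coe_set_eq (s := (O : Set (Subgroup G))) |>.trans
        (Set.ncard_coe_finset O)]
      refine (Nat.card_congr (Equiv.ofBijective (fun x : ↥M ⧸ St => (⟨conjS Q ((Quotient.out x : ↥M) : G),
        Finset.mem_coe.mpr (hmem.mpr ⟨_, (Quotient.out x).2, rfl⟩)⟩ : ↥(O : Set (Subgroup G))))
        ⟨fun x y hxy => ?_, fun A => ?_⟩)).symm
      · have h1 : conjS Q ((Quotient.out x : ↥M) : G) = conjS Q ((Quotient.out y : ↥M) : G) :=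
          congrArg Subtype.val hxy
        rw [← QuotientGroup.out_eq' x, ← QuotientGroup.out_eq' y, QuotientGroup.eq, mem_subgroupOf]
        apply H11.LocalC.mem_normalizer_of_conjS
        rw [Subgroup.coe_mul, Subgroup.coe_inv, ← conjS_conjS, ← h1, conjS_inv_self]
      · obtain ⟨θ, hθ, hθA⟩ := hmem.mp (Finset.mem_coe.mp A.2)
        refine ⟨QuotientGroup.mk ⟨θ, hθ⟩, Subtype.ext ?_⟩
        obtain ⟨s, hs⟩ := QuotientGroup.mk_out_eq_mul St ⟨θ, hθ⟩
        show conjS Q _ = _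
        rw [hs, Subgroup.coe_mul, ← conjS_conjS, conjS_eq_self (mem_subgroupOf.mp s.2), hθA]
    rw [hcard, ← Nat.not_even_iff_odd, even_iff_two_dvd]
    exact fun h2 => b.odd (h2.trans (index_dvd_of_le (fun t ht => mem_subgroupOf.mpr
      (b.tQ (mem_subgroupOf.mp ht)) : T.subgroupOf M ≤ St)))
  set c : S.ι → ℕ := fun i => (O.filter fun B => i ∈ S.D B).card with hc
  have hconst : ∀ i k, c i = c k := by
    intro i k
    obtain ⟨g, hg, hgt⟩ := S.trans i k
    have hgM := b.tM hg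
    show (O.filter fun B => i ∈ S.D B).card = (O.filter fun B => k ∈ S.D B).card
    rw [← Finset.card_image_of_injective _ (hinjc g)]
    congr 1
    conv_rhs => rw [← hperm g hgM, Finset.filter_image]
    congr 1
    refine Finset.filter_congr fun B hB => ?_
    have hBJ := (hfacts B hB).1
    rw [S.mem_D, S.mem_D]
    constructor
    · rintro ⟨a, ha, hne⟩
      exact ⟨g * a * g⁻¹, conjS_mem ha g, fun h => hne ((hgt a (hBJ ha)).mpr h)⟩
    · rintro ⟨a, ha, hne⟩
      refine ⟨g⁻¹ * a * g, mem_conjS.mp ha, fun h => hne ?_⟩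
      have := (hgt _ (hBJ (mem_conjS.mp ha))).mp h
      simpa [mul_assoc] using this
  have hprod : ∀ A ∈ O, ∏ B ∈ O, Nat.card ↥(A ⊓ B) = ∏ B ∈ O, Nat.card ↥(Q ⊓ B) := by
    intro A hA
    obtain ⟨θ, hθ, rfl⟩ := hmem.mp hA
    conv_lhs => rw [← hperm θ hθ, Finset.prod_image ((hinjc θ).injOn)]
    exact Finset.prod_congr rfl fun B _ => by rw [← conjS_inf, card_conjS]
  have hzero : ∀ A ∈ O, S.D A = ∅ := by
    intro A hA
    obtain ⟨a1, a2, a3, a4⟩ := hfacts A hA
    have e1 : ∀ B ∈ O, Nat.card ↥(Q ⊓ B) * S.q ^ (S.D B).card = Nat.card Q := fun B hB => by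
      obtain ⟨b1, b2, b3, b4⟩ := hfacts B hB
      rw [inf_comm]
      exact (S.orbit_facts b hQ b1 b2 b3 b4).2.2.1.symm
    have key : ∀ B ∈ O, Nat.card ↥(A ⊓ B) * S.q ^ ((S.D A).card + (S.D B).card) =
        (Nat.card ↥(Q ⊓ B) * S.q ^ (S.D B).card) * S.q ^ (2 * (S.D A ∩ S.D B).card) := fun B hB => by
      obtain ⟨b1, b2, b3, b4⟩ := hfacts B hB
      rw [e1 B hB]
      exact S.card_inf b hQ a1 a2 a3 a4 b1 b2 b3 b4
    have h1 := Finset.prod_congr rfl key
    simp only [pow_add, Finset.prod_mul_distrib, Finset.prod_const, Finset.prod_pow_eq_pow_sum] at h1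
    rw [hprod A hA, ← mul_assoc] at h1
    have hpos : 0 < (∏ B ∈ O, Nat.card ↥(Q ⊓ B)) * S.q ^ ∑ B ∈ O, (S.D B).card :=
      Nat.mul_pos (Finset.prod_pos fun B _ => Nat.card_pos) (pow_pos (by have := S.two_le_q; omega) _)
    have h2 : (S.q ^ (S.D A).card) ^ O.card = S.q ^ ∑ B ∈ O, 2 * (S.D A ∩ S.D B).card := by
      refine Nat.eq_of_mul_eq_mul_left hpos ?_
      linarith [h1, mul_right_comm (∏ B ∈ O, Nat.card ↥(Q ⊓ B)) (S.q ^ ∑ B ∈ O, (S.D B).card)
        ((S.q ^ (S.D A).card) ^ O.card)]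
    rw [← pow_mul] at h2
    have h3 := Nat.pow_right_injective S.two_le_q h2
    by_contra hne
    obtain ⟨i, hi⟩ := Finset.nonempty_iff_ne_empty.mpr hne
    have h4 : ∑ B ∈ O, (S.D A ∩ S.D B).card = (S.D A).card * c i := by
      calc ∑ B ∈ O, (S.D A ∩ S.D B).card = ∑ B ∈ O, ∑ k ∈ S.D A, (if k ∈ S.D B then 1 else 0) :=
            Finset.sum_congr rfl fun B _ => by
              rw [← Finset.filter_mem_eq_inter, Finset.card_filter]
        _ = ∑ k ∈ S.D A, c k := by
            rw [Finset.sum_comm]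
            exact Finset.sum_congr rfl fun k _ => by rw [hc]; exact (Finset.card_filter _ _).symm
        _ = _ := by rw [Finset.sum_congr rfl fun k _ => hconst k i, Finset.sum_const, smul_eq_mul]
    rw [← Finset.mul_sum, h4] at h3
    have h5 : O.card = 2 * c i := Nat.eq_of_mul_eq_mul_left (Finset.card_pos.mpr ⟨i, hi⟩)
      (h3.trans (by ring))
    exact (Nat.not_even_iff_odd.mpr hoddN) ⟨c i, by omega⟩
  refine h0 ((conjS_mono b.uQ θ₀).trans ?_)
  have hA : conjS Q θ₀ ∈ O := hclosed θ₀ hθ₀ Q hQO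
  obtain ⟨a1, -, -, -⟩ := hfacts _ hA
  exact fun a ha => b.cent ⟨H31.thompsonSubgroupOf_le 2 R (a1 ha),
    S.le_cent_of_D_empty a1 (hzero _ hA) ha⟩

end Sys

end Cfsg.Agent.H42.QTPush
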