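import Cfsg.Agent.H42.QTPush.Inner

/-!
A common normal two-subgroup: the coordinates of all the members, transported from one of them by the
elements of a two-group permuting the members transitively.
-/

set_option autoImplicit false
set_option linter.unusedSectionVars false
set_option linter.style.haveILetI false

namespace Cfsg.Agent.H42.QTPush

open Subgroup Cfsg.Agent H43.Blocks
open Cfsg.Agent.H11.LocalC (Ctx bs cs qG conjS)
open Cfsg.Agent.H13.LocalCAssembly (Member)
open scoped commutatorElement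

universe u

variable {G : Type u} [Group G]

instance {G : Type u} [Group G] {R E : Subgroup G} (L : Loc R E) : Field L.F := L.field

/-- Conjugation on `X` by an element of its normalizer. -/
def conjX (X : Subgroup G) (g : G) (hg : g ∈ normalizer (X : Set G)) : MulAut ↥X where
  toFun x := ⟨g * x * g⁻¹, (mem_normalizer_iff.mp hg _).mp x.2⟩
  invFun x := ⟨g⁻¹ * x * g, (mem_normalizer_iff.mp hg _).mpr (by simp [mul_assoc])⟩
  left_inv x := Subtype.ext (by simp [mul_assoc])
  right_inv x := Subtype.ext (by simp [mul_assoc])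
  map_mul' a b := Subtype.ext (by simp [mul_assoc])

theorem coe_conjX {X : Subgroup G} {g : G} (hg : g ∈ normalizer (X : Set G)) (x : ↥X) :
    ((conjX X g hg x : ↥X) : G) = g * x * g⁻¹ := rfl

theorem coe_conjX_symm {X : Subgroup G} {g : G} (hg : g ∈ normalizer (X : Set G)) (x : ↥X) :
    (((conjX X g hg).symm x : ↥X) : G) = g⁻¹ * x * g := rfl

theorem map_conjX {X : Subgroup G} {g : G} (hg : g ∈ normalizer (X : Set G)) (A : Subgroup ↥X) :
    (A.map (conjX X g hg).toMonoidHom).map X.subtype = conjS (A.map X.subtype) g := by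
  rw [Subgroup.map_map, conjS, Subgroup.map_map]
  congr 1

theorem conjX_fix {X R : Subgroup G} {g : G} (hg : g ∈ normalizer (X : Set G))
    (hgR : g ∈ normalizer (R : Set G)) {A : Subgroup ↥X} (hA : A.map X.subtype = R) :
    A.map (conjX X g hg).toMonoidHom = A := by
  apply map_injective X.subtype_injective
  rw [map_conjX, hA]
  exact H11.LocalC.conjS_eq_self hgR

section

variable {Γ : Type u} [Group Γ] {S : Sylow 2 Γ} {E : Subgroup Γ} (L : Loc (S : Subgroup Γ) E)

open Classical in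
/-- Extension of a coordinate from one module to the product of all. -/
noncomputable def extC (φ : Γ → L.F) (E : Subgroup Γ) (U : Subgroup Γ) (u : Γ) : L.F :=
  if h : ∃ a ∈ uSub 2 E, ∃ b ∈ U ⊓ centralizer (E : Set Γ), a * b = u then φ h.choose else 0

theorem extC_eq {U : Subgroup Γ} {φ : Γ → L.F}
    (hmul : ∀ a ∈ uSub 2 E, ∀ b ∈ uSub 2 E, φ (a * b) = φ a + φ b)
    (hzero : ∀ a ∈ uSub 2 E, a ∈ centralizer (E : Set Γ) → φ a = 0)
    {a b : Γ} (ha : a ∈ uSub 2 E) (hb : b ∈ U ⊓ centralizer (E : Set Γ)) :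
    extC L φ E U (a * b) = φ a := by
  have h : ∃ a' ∈ uSub 2 E, ∃ b' ∈ U ⊓ centralizer (E : Set Γ), a' * b' = a * b := ⟨a, ha, b, hb, rfl⟩
  rw [extC, dif_pos h]
  obtain ⟨ha', b', hb', he⟩ := h.choose_spec
  set a' := h.choose
  have h1 : a'⁻¹ * a ∈ centralizer (E : Set Γ) := by
    have : a'⁻¹ * a = b' * b⁻¹ := by
      calc a'⁻¹ * a = a'⁻¹ * (a * b) * b⁻¹ := by group
        _ = b' * b⁻¹ := by rw [← he]; group
    rw [this]
    exact mul_mem hb'.2 (inv_mem hb.2)
  have h2 := hmul a' ha' _ (mul_mem (inv_mem ha') ha)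
  rw [mul_inv_cancel_left, hzero _ (mul_mem (inv_mem ha') ha) h1, add_zero] at h2
  exact h2.symm

end

variable [Finite G] {T R X : Subgroup G} {S : Sylow 2 ↥X}

/-- The coordinates of all members. -/
theorem exists_sys (c : Ctx S) (hS : (S : Subgroup ↥X).map X.subtype = R)
    (hTX : T ≤ normalizer (X : Set G)) (hTR : T ≤ normalizer (R : Set G)) (hRT : R ≤ T)
    {E₀ : Subgroup ↥X} (hE₀ : Member S E₀) (L : Loc (S : Subgroup ↥X) E₀)
    (htrans : ∀ E, Member S E → ∃ (g : G) (hg : g ∈ T), E₀.map (conjX X g (hTX hg)).toMonoidHom = E) :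
    Nonempty (Sys T R ((uP S).map X.subtype)) := by
  classical
  letI := L.fin
  letI := L.finF
  let pull : G → ↥X := fun x => if h : x ∈ X then ⟨x, h⟩ else 1
  have hpull : ∀ x : ↥X, pull (x : G) = x := fun x => by simp only [pull, dif_pos x.2, Subtype.coe_eta]
  choose g hg hgE using fun E : {E : Subgroup ↥X // Member S E} => htrans E.1 E.2
  let φ : {E : Subgroup ↥X // Member S E} → MulAut ↥X := fun E => conjX X (g E) (hTX (hg E))
  have hφS : ∀ E, (S : Subgroup ↥X).map (φ E).toMonoidHom = S := fun E =>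
    conjX_fix (hTX (hg E)) (hTR (hg E)) hS
  have hφS' : ∀ E, (S : Subgroup ↥X).map (φ E).symm.toMonoidHom = S := fun E => by
    conv_lhs => rw [← hφS E]
    rw [Subgroup.map_map]
    convert Subgroup.map_id (S : Subgroup ↥X) using 2
    ext x; simp
  have hJ : jR R = (jR (S : Subgroup ↥X)).map X.subtype := by
    rw [jR, ← hS]; exact (H31.thompsonSubgroupOf_map X.subtype_injective).symm
  have hφJ : ∀ E {x : ↥X}, x ∈ jR (S : Subgroup ↥X) → (φ E).symm x ∈ jR (S : Subgroup ↥X) := by
    intro E x hx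
    have := mem_map_of_mem (φ E).symm.toMonoidHom hx
    rwa [jR, H31.thompsonSubgroupOf_map (φ E).symm.injective, hφS' E] at this
  have hmemE : ∀ (ψ : MulAut ↥X), (S : Subgroup ↥X).map ψ.toMonoidHom = S → ∀ {F : Subgroup ↥X},
      Member S F → Member S (F.map ψ.toMonoidHom) := fun ψ hψ F hF => member_map ψ hψ hF
  have hφU : ∀ E {x : ↥X}, x ∈ uP S → (φ E).symm x ∈ uP S := by
    intro E x hx
    have hle : (uP S).map (φ E).symm.toMonoidHom ≤ uP S := by
      rw [map_le_iff_le_comap]
      refine iSup₂_le fun F hF => map_le_iff_le_comap.mp ?_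
      rw [map_uSub]
      exact le_iSup₂_of_le _ (hmemE _ (hφS' E) hF) le_rfl
    exact hle (mem_map_of_mem _ hx)
  have hcast : ∀ E {x : G} (hx : x ∈ jR R), (φ E).symm (pull x) ∈ jR (S : Subgroup ↥X) := by
    intro E x hx
    rw [hJ] at hx
    obtain ⟨y, hy, rfl⟩ := hx
    rw [coe_subtype, hpull]
    exact hφJ E hy
  have hcastU : ∀ E {x : G} (hx : x ∈ (uP S).map X.subtype), (φ E).symm (pull x) ∈ uP S := by
    intro E x hx
    obtain ⟨y, hy, rfl⟩ := hx
    rw [coe_subtype, hpull]
    exact hφU E hy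
  have hXJ : ∀ {x : G}, x ∈ jR R → x ∈ X := fun {x} hx => by
    rw [hJ] at hx
    exact map_subtype_le _ hx
  have hXU : ∀ {x : G}, x ∈ (uP S).map X.subtype → x ∈ X := fun {x} hx => map_subtype_le _ hx
  have hJN : jR (S : Subgroup ↥X) ≤ normalizer (E₀ : Set ↥X) :=
    H11.LocalC.js_le_bs.trans hE₀.baumann_le_normalizer
  haveI hUn := uP_normal c
  set W := uP S ⊓ centralizer (E₀ : Set ↥X)
  let xe : L.ι → ↥X → L.F := fun i => extC L (L.x i) E₀ (uP S)
  let ye : L.ι → ↥X → L.F := fun i => extC L (L.y i) E₀ (uP S)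
  have hxe : ∀ i {a b : ↥X}, a ∈ uSub 2 E₀ → b ∈ W → xe i (a * b) = L.x i a := fun i a b ha hb =>
    extC_eq L (L.x_mul i) (fun a ha hc => (L.zero i a ha hc).1) ha hb
  have hye : ∀ i {a b : ↥X}, a ∈ uSub 2 E₀ → b ∈ W → ye i (a * b) = L.y i a := fun i a b ha hb =>
    extC_eq L (L.y_mul i) (fun a ha hc => (L.zero i a ha hc).2) ha hb
  have hsplit : ∀ {u : ↥X}, u ∈ uP S → ∃ a ∈ uSub 2 E₀, ∃ b ∈ W, a * b = u := by
    intro u hu
    have h1 := uP_le_sup c hE₀ hu
    exact Set.mem_mul.mp ((coe_mul_of_left_le_normalizer_right (uSub 2 E₀) W fun a ha =>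
      centralizer_le_normalizer _ (mem_centralizer_iff.mpr fun b hb => H31.elem_comm (uP_elem c) hb.1
        ((le_iSup₂_of_le (f := fun E _ => uSub 2 E) E₀ hE₀ le_rfl : uSub 2 E₀ ≤ uP S) ha))).le h1)
  have hU0 : uSub 2 E₀ ≤ uP S := le_iSup₂_of_le (f := fun E _ => uSub 2 E) E₀ hE₀ le_rfl
  -- the coordinates of an element of the module of another member vanish
  have hother : ∀ (E F : {E : Subgroup ↥X // Member S E}), F ≠ E → ∀ a ∈ uSub 2 E₀,
      (φ E).symm (φ F a) ∈ W := by
    intro E F hne a ha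
    set F' := F.1.map (φ E).symm.toMonoidHom with hF'
    have hm : Member S F' := hmemE _ (hφS' E) F.2
    have hF'E : F' ≠ E₀ := fun h0 => hne (Subtype.ext (by
      have := congrArg (Subgroup.map (φ E).toMonoidHom) h0
      rw [hgE E, hF', Subgroup.map_map] at this
      rw [← this]
      convert (Subgroup.map_id F.1).symm using 2
      ext x; simp))
    have h1 : (φ E).symm (φ F a) ∈ uSub 2 F' := by
      have h2 := mem_map_of_mem (φ E).symm.toMonoidHom (mem_map_of_mem (φ F).toMonoidHom ha)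
      rw [map_uSub (φ F), show E₀.map (φ F).toMonoidHom = F.1 from hgE F, map_uSub] at h2
      exact h2
    refine ⟨le_iSup₂_of_le (f := fun E _ => uSub 2 E) F' hm le_rfl h1, ?_⟩
    have h3 := commutator_eq_bot_iff_le_centralizer.mp ((hm.eq_or_commute c hE₀).resolve_left hF'E)
    exact h3 ((qSub_le 2 F') (member_uSub_eq c hm ▸ h1))
  have hcentE : ∀ (E : {E : Subgroup ↥X // Member S E}) {j : G}, j ∈ jR R →
      (∀ i, L.t i ((φ E).symm (pull j)) = 0) → pull j ∈ centralizer (uSub 2 E.1 : Set ↥X) := by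
    intro E j hj h0
    have h1 := L.ker _ (hcast E hj) h0
    have h2 := mem_map_of_mem (φ E).toMonoidHom h1
    rw [H62.Blocks.map_centralizer_equiv, map_uSub, hgE E] at h2
    simpa using h2
  refine ⟨{
    ι := {E : Subgroup ↥X // Member S E} × L.ι
    fin := Fintype.ofFinite _
    F := L.F
    field := L.field
    finF := L.finF
    t := fun p x => L.t p.2 ((φ p.1).symm (pull x))
    x := fun p x => xe p.2 ((φ p.1).symm (pull x))
    y := fun p x => ye p.2 ((φ p.1).symm (pull x))
    f := fun p => ((φ p.1 (L.f p.2) : ↥X) : G)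
    t_mul := ?_
    y_mul := ?_
    law := ?_
    surj := ?_
    ker := ?_
    sqC := ?_
    move := ?_
    trans := ?_ }⟩
  · intro p a ha b hb
    rw [show pull (a * b) = pull a * pull b from by
      simp only [pull, dif_pos (hXJ ha), dif_pos (hXJ hb), dif_pos (mul_mem (hXJ ha) (hXJ hb))]; rfl,
      map_mul]
    exact L.t_mul _ _ (hcast _ ha) _ (hcast _ hb)
  · intro p a ha b hb
    rw [show pull (a * b) = pull a * pull b from by
      simp only [pull, dif_pos (hXU ha), dif_pos (hXU hb), dif_pos (mul_mem (hXU ha) (hXU hb))]; rfl,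
      map_mul]
    obtain ⟨a₁, ha₁, b₁, hb₁, h1⟩ := hsplit (hcastU p.1 ha)
    obtain ⟨a₂, ha₂, b₂, hb₂, h2⟩ := hsplit (hcastU p.1 hb)
    rw [← h1, ← h2]
    have hc' : b₁ * a₂ = a₂ * b₁ := H31.elem_comm (uP_elem c) hb₁.1 (hU0 ha₂)
    have he : a₁ * b₁ * (a₂ * b₂) = (a₁ * a₂) * (b₁ * b₂) := by
      simp only [mul_assoc]; rw [← mul_assoc b₁, hc', mul_assoc]
    rw [he, hye _ (mul_mem ha₁ ha₂) (mul_mem hb₁ hb₂), hye _ ha₁ hb₁, hye _ ha₂ hb₂,
      L.y_mul _ _ ha₁ _ ha₂]
  · intro p j hj u hu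
    have hjX := hXJ hj
    have huX := hXU hu
    rw [show pull ⁅j, u⁆ = ⁅pull j, pull u⁆ from by
      have h0 : ⁅j, u⁆ ∈ X := by
        rw [commutatorElement_def]; exact mul_mem (mul_mem (mul_mem hjX huX) (inv_mem hjX)) (inv_mem huX)
      simp only [pull, dif_pos hjX, dif_pos huX, dif_pos h0]; rfl, map_commutatorElement]
    obtain ⟨a, ha, b, hb, hab⟩ := hsplit (hcastU p.1 hu)
    set j' := (φ p.1).symm (pull j)
    have hjN := hJN (hcast p.1 hj)
    rw [← hab, hye _ ha hb]
    have hja : ⁅j', a⁆ ∈ uSub 2 E₀ := by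
      rw [commutatorElement_def]
      exact mul_mem ((mem_normalizer_iff.mp (normalizer_le_uSub E₀ hjN) a).mp ha) (inv_mem ha)
    have hjb : ⁅j', b⁆ ∈ W := by
      rw [commutatorElement_def]
      refine mul_mem ⟨hUn.conj_mem b hb.1 j', mem_centralizer_iff.mpr fun e he => ?_⟩ (inv_mem hb)
      have he' : j'⁻¹ * e * j' ∈ E₀ := by
        simpa using (mem_normalizer_iff.mp (inv_mem hjN) e).mp he
      have h3 := mem_centralizer_iff.mp hb.2 _ he'
      calc e * (j' * b * j'⁻¹) = j' * (j'⁻¹ * e * j' * b) * j'⁻¹ := by group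
        _ = j' * b * j'⁻¹ * e := by rw [h3]; group
    have hsp : ⁅j', a * b⁆ = ⁅j', a⁆ * ⁅j', b⁆ := by
      have hcc : a * ⁅j', b⁆ * a⁻¹ = ⁅j', b⁆ := by
        rw [H31.elem_comm (uP_elem c) (hU0 ha) hjb.1, mul_inv_cancel_right]
      conv_rhs => rw [← hcc]
      simp only [commutatorElement_def]; group
    rw [hsp, hxe _ hja hjb, L.law _ _ (hcast p.1 hj) a ha]
  · intro v
    haveI : Fintype {E : Subgroup ↥X // Member S E} := Fintype.ofFinite _
    have key : ∀ s : Finset {E : Subgroup ↥X // Member S E}, ∃ u ∈ uP S, ∀ E i,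
        ye i ((φ E).symm u) = if E ∈ s then v (E, i) else 0 := by
      intro s
      induction s using Finset.induction_on with
      | empty =>
        refine ⟨1, one_mem _, fun E i => ?_⟩
        have h1 := hye i (one_mem (uSub 2 E₀)) (one_mem W)
        have h2 := L.y_mul i 1 (one_mem _) 1 (one_mem _)
        rw [one_mul] at h1 h2
        rw [map_one, h1, if_neg (Finset.notMem_empty _), left_eq_add.mp h2]
      | insert E₁ s hE₁ ih =>
        obtain ⟨u, hu, huv⟩ := ih
        obtain ⟨a, ha, hav⟩ := L.surj fun i => v (E₁, i)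
        have haU : φ E₁ a ∈ uP S := by
          refine le_iSup₂_of_le (f := fun E _ => uSub 2 E) E₁.1 E₁.2 le_rfl ?_
          have h2 := mem_map_of_mem (φ E₁).toMonoidHom ha
          rw [map_uSub, hgE E₁] at h2
          exact h2
        refine ⟨φ E₁ a * u, mul_mem haU hu, fun E i => ?_⟩
        obtain ⟨a', ha', b', hb', hab'⟩ := hsplit (hφU E hu)
        have hu' := huv E i
        rw [← hab', hye i ha' hb'] at hu'
        rw [map_mul, ← hab']
        by_cases hEE : E₁ = E
        · subst hEE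
          rw [MulEquiv.symm_apply_apply, ← mul_assoc, hye i (mul_mem ha ha') hb', L.y_mul i a ha a' ha',
            hav, hu', if_neg hE₁, add_zero, if_pos (Finset.mem_insert_self _ _)]
        · have hb1 := hother E E₁ hEE a ha
          rw [show (φ E).symm (φ E₁ a) * (a' * b') = a' * ((φ E).symm (φ E₁ a) * b') by
            rw [← mul_assoc, H31.elem_comm (uP_elem c) hb1.1 (hU0 ha'), mul_assoc],
            hye i ha' (mul_mem hb1 hb'), hu']
          simp [Ne.symm hEE]
    obtain ⟨u, hu, huv⟩ := key Finset.univ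
    refine ⟨u, mem_map_of_mem _ hu, fun p => ?_⟩
    rw [hpull u, huv, if_pos (Finset.mem_univ _)]
  · intro j hj h0
    refine mem_centralizer_iff.mpr ?_
    rintro _ ⟨u, hu, rfl⟩
    have hle : uP S ≤ centralizer ({pull j} : Set ↥X) := iSup₂_le fun F hF a ha =>
      mem_centralizer_singleton_iff.mpr
        (mem_centralizer_iff.mp (hcentE ⟨F, hF⟩ hj fun i => h0 (⟨F, hF⟩, i)) a ha)
    have h1 := congrArg Subtype.val (mem_centralizer_singleton_iff.mp (hle hu))
    simpa [pull, dif_pos (hXJ hj)] using h1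
  · intro p q hq hlift
    rw [← hS] at hq
    obtain ⟨q₀, hq₀, rfl⟩ := hq
    rw [coe_subtype] at hlift ⊢
    set q' := (φ p.1).symm q₀
    have hq'S : q' ∈ (S : Subgroup ↥X) := (hφS' p.1).le (mem_map_of_mem _ hq₀)
    have hlift' : ∀ v, ∃ j ∈ jR R, L.t p.2 ((φ p.1).symm (pull j)) = v ∧
        (∀ k, k ≠ p → L.t k.2 ((φ k.1).symm (pull j)) = 0) ∧
        ((φ p.1).symm (pull j)) * ((φ p.1).symm (pull j)) = 1 ∧
        q' * (φ p.1).symm (pull j) = (φ p.1).symm (pull j) * q' := by
      intro v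
      obtain ⟨j, hj, h1, h2, h3, h4⟩ := hlift v
      refine ⟨j, hj, h1, h2, ?_, ?_⟩
      · rw [← map_mul, show pull j * pull j = 1 from Subtype.ext (by
          simp only [pull, dif_pos (hXJ hj)]; exact h3), map_one]
      · simp only [q', ← map_mul]
        refine congrArg _ (Subtype.ext ?_)
        simp only [Subgroup.coe_mul, pull, dif_pos (hXJ hj)]
        exact h4
    have hqN : q' ∈ normalizer (E₀ : Set ↥X) := by
      refine H11.LocalC.mem_normalizer_of_conjS ?_
      by_contra hne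
      have hm : Member S (conjS E₀ q') := H13.LocalCAssembly.member_conj c (good_of_ctx c) hE₀ q'
      obtain ⟨j, hj, h1, h2, -, h4⟩ := hlift' 1
      set F : Subgroup ↥X := (conjS E₀ q').map (φ p.1).toMonoidHom with hFdef
      have hFm : Member S F := hmemE _ (hφS p.1) hm
      have hFne : (⟨F, hFm⟩ : {E : Subgroup ↥X // Member S E}) ≠ p.1 := fun h0 => hne (by
        have h5 := congrArg Subtype.val h0
        simp only [hFdef] at h5
        exact map_injective (φ p.1).injective (h5.trans (hgE p.1).symm))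
      have h6 := hcentE ⟨F, hFm⟩ hj fun i => h2 (⟨F, hFm⟩, i) fun h0 => hFne (congrArg Prod.fst h0)
      set j' := (φ p.1).symm (pull j)
      have h7 : ∀ a ∈ uSub 2 E₀, j' * a = a * j' := by
        intro a ha
        have h8 : φ p.1 (q' * a * q'⁻¹) ∈ uSub 2 F := by
          rw [← map_uSub, ← map_uSub]
          exact mem_map_of_mem _ (mem_map_of_mem _ ha)
        have h9 := congrArg (φ p.1).symm (mem_centralizer_iff.mp h6 _ h8)
        simp only [map_mul, MulEquiv.symm_apply_apply] at h9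
        change q' * a * q'⁻¹ * j' = j' * (q' * a * q'⁻¹) at h9
        calc j' * a = q'⁻¹ * ((q' * j') * a * q'⁻¹) * q' := by group
          _ = q'⁻¹ * (j' * (q' * a * q'⁻¹)) * q' := by rw [h4]; group
          _ = a * (q'⁻¹ * j' * q') := by rw [← h9]; group
          _ = a * j' := by rw [mul_assoc q'⁻¹, ← h4, inv_mul_cancel_left]
      obtain ⟨a, ha, hy⟩ := L.surj fun _ => 1
      have h10 := L.law p.2 j' (hcast p.1 hj) a ha
      rw [commutatorElement_eq_one_iff_mul_comm.mpr (h7 a ha), hy, mul_one, h1] at h10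
      have h11 := L.x_mul p.2 1 (one_mem _) 1 (one_mem _)
      rw [one_mul, left_eq_add] at h11
      exact one_ne_zero (h10.symm.trans h11)
    have h12 := L.sqC p.2 q' hq'S hqN fun v => by
      obtain ⟨j, hj, h1, h2, h3, h4⟩ := hlift' v
      exact ⟨_, hcast p.1 hj, h1, fun k hk => h2 (p.1, k) fun h0 => hk (congrArg Prod.snd h0), h3, h4⟩
    have h13 := congrArg (fun z : ↥X => ((φ p.1 z : ↥X) : G)) h12
    simpa [q'] using h13
  · intro p j hj hne hP
    refine L.move p.2 _ (hcast p.1 hj) hne ?_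
    set f := (X.subtype.comp (φ p.1).toMonoidHom) with hf
    have hfi : Function.Injective f := X.subtype_injective.comp (φ p.1).injective
    set A := closure ({(φ p.1).symm (pull j), L.f p.2 * (φ p.1).symm (pull j) * (L.f p.2)⁻¹} : Set ↥X)
    have hA : A.map f = closure ({j, ((φ p.1 (L.f p.2) : ↥X) : G) * j *
        (((φ p.1 (L.f p.2) : ↥X) : G))⁻¹} : Set G) := by
      rw [MonoidHom.map_closure, Set.image_pair]
      simp [hf, pull, dif_pos (hXJ hj)]
    rw [← hA] at hP
    exact hP.of_equiv (equivMapOfInjective A f hfi).symm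
  · intro p p'
    obtain ⟨h, hh, -, hiff⟩ := L.trans p.2 p'.2
    have hhT : (h : G) ∈ T := hRT (hS.le (mem_map_of_mem _ hh))
    refine ⟨g p'.1 * h * (g p.1)⁻¹, mul_mem (mul_mem (hg _) hhT) (inv_mem (hg _)), fun j hj => ?_⟩
    rw [hiff _ (hcast p.1 hj)]
    refine Eq.congr_left (congrArg (L.t p'.2) ?_)
    apply (φ p'.1).injective
    rw [MulEquiv.apply_symm_apply]
    refine Subtype.ext ?_
    have hmem : g p'.1 * h * (g p.1)⁻¹ * j * (g p'.1 * h * (g p.1)⁻¹)⁻¹ ∈ X :=
      (mem_normalizer_iff.mp (hTX (mul_mem (mul_mem (hg _) hhT) (inv_mem (hg _)))) j).mp (hXJ hj)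
    simp only [pull, dif_pos hmem, dif_pos (hXJ hj), φ, coe_conjX, coe_conjX_symm, Subgroup.coe_mul,
      Subgroup.coe_inv]
    group

end Cfsg.Agent.H42.QTPush
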