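import Cfsg.Agent.H42.QTPush.LocExists
import Cfsg.Agent.H13.LocalCAlt.Halt
import Cfsg.Agent.H13.LocalCShape
import Cfsg.Agent.H13.LocalCAssembly

/-!
A common normal two-subgroup: the members of the block structure and the product of their modules.
-/

set_option autoImplicit false
set_option linter.unusedSectionVars false
set_option linter.style.haveILetI false

namespace Cfsg.Agent.H42.QTPush

open Subgroup Cfsg.Agent H43.Blocks
open Cfsg.Agent.H11.LocalC (Ctx bs cs qG conjS js)
open Cfsg.Agent.H13.LocalCAssembly (Member)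
open scoped commutatorElement

universe u

variable {G : Type u} [Group G] [Finite G] {S : Sylow 2 G}

theorem mk_ctx (hG : centralizer (Cfsg.pCore 2 G : Set G) ≤ Cfsg.pCore 2 G) (hne : cs S ≠ ⊤) : Ctx S :=
  ⟨hG, hne, fun _ _ hHc S' => H11.LocalC.good_all
    (fun _ _ _ _ c' _ _ P hb => H13.LocalCAlt.halt c' P hb) hHc S'⟩

theorem good_of_ctx (c : Ctx S) : H11.LocalC.Good S :=
  H11.LocalC.good_all (fun _ _ _ _ c' _ _ P hb => H13.LocalCAlt.halt c' P hb) c.hG S

theorem bs_map (φ : MulAut G) (hφ : (S : Subgroup G).map φ.toMonoidHom = S) :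
    (bs S).map φ.toMonoidHom = bs S := by
  show (Cfsg.baumannSubgroupOf 2 (S : Subgroup G)).map _ = _
  rw [H13.LocalCT.baumann_map_inj 2 _ (f := φ.toMonoidHom) φ.injective, hφ]

theorem cs_map_le (φ : MulAut G) (hφ : (S : Subgroup G).map φ.toMonoidHom = S) :
    (cs S).map φ.toMonoidHom ≤ cs S := by
  have hB := bs_map φ hφ
  show (Cfsg.cStarOf 2 (S : Subgroup G)).map _ ≤ _
  rw [show Cfsg.cStarOf 2 (S : Subgroup G) = centralizer (Cfsg.omegaOneCenter 2 (S : Subgroup G) : Set G) ⊔
    Cfsg.charNormalizersJoin (bs S) from rfl, Subgroup.map_sup]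
  refine sup_le ?_ ?_
  · rw [H62.Blocks.map_centralizer_equiv, ← H11.PushUpMin.map_omega_inj φ.injective, hφ]
    exact le_sup_left
  · unfold Cfsg.charNormalizersJoin
    rw [Subgroup.map_iSup]
    refine iSup_le fun C => ?_
    have hle : (C : Subgroup G).map φ.toMonoidHom ≤ bs S := (map_mono C.2.1).trans hB.le
    refine le_trans (le_normalizer_map φ.toMonoidHom) (H11.LocalC.normalizer_char_le_cs hle
      (fun h0 => C.2.2.1 ((map_eq_bot_iff_of_injective _ φ.injective).mp h0)) ?_)
    let ψ₀ : ↥(bs S) ≃* ↥(bs S) :=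
      (equivMapOfInjective _ φ.toMonoidHom φ.injective).trans (MulEquiv.subgroupCongr hB)
    have he : ((C : Subgroup G).map φ.toMonoidHom).subgroupOf (bs S) =
        ((C : Subgroup G).subgroupOf (bs S)).map ψ₀.toMonoidHom := by
      ext y
      constructor
      · rintro ⟨z, hz, hzy⟩
        exact ⟨⟨z, C.2.1 hz⟩, hz, Subtype.ext hzy⟩
      · rintro ⟨z, hz, rfl⟩
        exact ⟨_, hz, rfl⟩
    rw [he, characteristic_iff_map_eq]
    intro ψ
    conv_rhs => rw [← (characteristic_iff_map_eq.mp C.2.2.2 ((ψ₀.trans ψ).trans ψ₀.symm))]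
    rw [Subgroup.map_map, Subgroup.map_map]
    congr 1
    ext z
    simp

/-- Automorphisms fixing the Sylow subgroup permute the members. -/
theorem member_map (φ : MulAut G) (hφ : (S : Subgroup G).map φ.toMonoidHom = S) {E : Subgroup G}
    (h : Member S E) : Member S (E.map φ.toMonoidHom) := by
  refine ⟨H11.LocalC.isBlock_iff.mpr ⟨?_, ?_⟩, h.sub.map φ.surjective, fun hle => h.out fun e he => ?_⟩
  · have := (H11.LocalC.map_body_iff (f := φ.toMonoidHom) φ.injective).mpr
      (H11.LocalC.isBlock_iff.mp h.block).1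
    show H11.LocalC.Body 2 (bs S) _
    rw [← bs_map φ hφ]
    exact this
  · have hne := (H11.LocalC.isBlock_iff.mp h.block).2
    rw [← hφ, H11.PushUpMin.map_omega_inj φ.injective, ← map_commutator]
    exact fun h0 => hne ((map_eq_bot_iff_of_injective _ φ.injective).mp h0)
  · have hφ' : (S : Subgroup G).map (φ.symm : MulAut G).toMonoidHom = S := by
      conv_lhs => rw [← hφ]
      rw [Subgroup.map_map]
      convert Subgroup.map_id (S : Subgroup G) using 2
      ext x; simp
    have := cs_map_le φ.symm hφ' (mem_map_of_mem _ (hle (mem_map_of_mem φ.toMonoidHom he)))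
    simpa using this

/-- The product of the members. -/
noncomputable abbrev pP (S : Sylow 2 G) : Subgroup G := ⨆ E ∈ {E | Member S E}, E

/-- The product of their modules. -/
noncomputable abbrev uP (S : Sylow 2 G) : Subgroup G := ⨆ E ∈ {E | Member S E}, uSub 2 E

variable (c : Ctx S)

include c

theorem member_uSub_eq {E : Subgroup G} (h : Member S E) : uSub 2 E = qSub 2 E := by
  have hk := (h.data c).toCore
  rw [uSub_eq_wSub hk]
  exact (hk.type.resolve_right fun he => absurd he.hp (by decide)).symm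

theorem uP_le_V : uP S ≤ Cfsg.omegaOneCenter 2 (qG 2 G) :=
  iSup₂_le fun _ hE => (Member.data c hE).toCore.U_le_V

theorem uP_elem : Cfsg.IsElementaryAbelian 2 (uP S) :=
  H31.elem_le (H31.elem_omegaOne_center 2 _) (uP_le_V c)

theorem uP_le_qG : uP S ≤ qG 2 G := (uP_le_V c).trans ((H31.omegaOne_le 2 _).trans inf_le_left)

theorem qG_le_cent : qG 2 G ≤ centralizer (uP S : Set G) := fun x hx => mem_centralizer_iff.mpr fun u hu =>
  ((mem_inf.mp (H31.omegaOne_le 2 _ (uP_le_V c hu))).2 x hx).symm

theorem uP_normal : (uP S).Normal := by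
  refine ⟨fun u hu g => ?_⟩
  have hle : (uP S).map (MulAut.conj g).toMonoidHom ≤ uP S := by
    rw [map_le_iff_le_comap]
    refine iSup₂_le fun E hE => map_le_iff_le_comap.mp ?_
    rw [map_uSub]
    exact le_iSup₂_of_le _ (H13.LocalCAssembly.member_conj c (good_of_ctx c) hE g) le_rfl
  exact hle (mem_map_of_mem _ hu)

theorem pP_normal : (pP S).Normal := by
  refine ⟨fun u hu g => ?_⟩
  have hle : (pP S).map (MulAut.conj g).toMonoidHom ≤ pP S := by
    rw [map_le_iff_le_comap]
    exact iSup₂_le fun E hE => map_le_iff_le_comap.mp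
      (le_iSup₂_of_le _ (H13.LocalCAssembly.member_conj c (good_of_ctx c) hE g) le_rfl)
  exact hle (mem_map_of_mem _ hu)

/-- The modules lie in `J(S)`. -/
theorem uP_le_js : uP S ≤ jR (S : Subgroup G) := by
  classical
  have key : ∀ s : Finset (Subgroup G), (∀ E ∈ s, Member S E) →
      ∃ A, H31.MaxIn 2 (S : Subgroup G) A ∧ ∀ E ∈ s, uSub 2 E ≤ A := by
    intro s
    induction s using Finset.induction_on with
    | empty => exact fun _ => (H31.exists_maxIn 2 (S : Subgroup G)).imp fun A hA => ⟨hA, by simp⟩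
    | insert E s hEs ih =>
      intro hs
      obtain ⟨A, hA, hsA⟩ := ih fun E' h' => hs E' (Finset.mem_insert_of_mem h')
      have hE : Member S E := hs E (Finset.mem_insert_self _ _)
      refine ⟨_, (hE.toOut.maxIn_repl c (H13.LocalCShape.shape_of_out c hE.toOut) hA).1, fun E' h' => ?_⟩
      rcases Finset.mem_insert.mp h' with rfl | h''
      · exact le_sup_right
      · refine le_trans (le_inf (hsA E' h'') ?_) le_sup_left
        exact (((le_iSup₂_of_le E' (hs E' h') le_rfl : uSub 2 E' ≤ uP S).trans (uP_le_qG c)).trans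
          (qG_le_cent c)).trans (centralizer_le (le_iSup₂_of_le E hE le_rfl : uSub 2 E ≤ uP S))
  refine iSup₂_le fun E hE => ?_
  obtain ⟨A, hA, hEA⟩ := key {E} (by simpa using hE)
  exact (hEA E (Finset.mem_singleton_self E)).trans (H31.le_thompsonSubgroupOf hA)

/-- An element centralising the modules moves every member into its module. -/
theorem comm_mem_uSub {E : Subgroup G} (h : Member S E) {x : G} (hx : x ∈ centralizer (uP S : Set G))
    {e : G} (he : e ∈ E) : ⁅x, e⁆ ∈ uSub 2 E := by
  have hxc : x ∈ centralizer (uSub 2 E : Set G) := centralizer_le (le_iSup₂_of_le E h le_rfl : uSub 2 E ≤ uP S) hx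
  have := (h.data c).toCore.commutator_mem_Q
    (x := x) ⟨h.toOut.centralizer_uSub_le c hxc, hxc⟩ he
  rwa [member_uSub_eq c h]

theorem sq_comm_member {E : Subgroup G} (h : Member S E) {x : G} (hx : x ∈ centralizer (uP S : Set G))
    {e : G} (he : e ∈ E) : x * x * e = e * (x * x) := by
  have hw := comm_mem_uSub c h hx he
  set w := ⁅x, e⁆
  have hwU : w ∈ uP S := le_iSup₂_of_le (f := fun E _ => uSub 2 E) E h le_rfl hw
  have hw2 : w * w = 1 := (pow_two w).symm.trans ((uP_elem c).2 w hwU)
  have hxw : x * w = w * x := (mem_centralizer_iff.mp hx w hwU).symm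
  have h1 : x * e = w * e * x := by simp [w, commutatorElement_def]
  calc x * x * e = x * (w * e * x) := by rw [mul_assoc, h1]
    _ = (x * w) * (e * x) := by simp only [mul_assoc]
    _ = w * (x * e) * x := by rw [hxw]; simp only [mul_assoc]
    _ = w * w * (e * (x * x)) := by rw [h1]; simp only [mul_assoc]
    _ = _ := by rw [hw2, one_mul]

theorem sq_comm_pP {x : G} (hx : x ∈ centralizer (uP S : Set G)) :
    x * x ∈ centralizer (pP S : Set G) := by
  have hle : pP S ≤ centralizer ({x * x} : Set G) := iSup₂_le fun E hE e he =>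
    mem_centralizer_singleton_iff.mpr (sq_comm_member c hE hx he).symm
  exact mem_centralizer_iff.mpr fun e he => mem_centralizer_singleton_iff.mp (hle he)

/-- `[Q, P] ≤ U`. -/
theorem qG_commutator_le : ⁅qG 2 G, pP S⁆ ≤ uP S := by
  haveI := uP_normal c
  refine commutator_le.mpr fun q hq p hp => ?_
  have hle : pP S ≤ (centralizer ({QuotientGroup.mk' (uP S) q} : Set (G ⧸ uP S))).comap
      (QuotientGroup.mk' (uP S)) := iSup₂_le fun E hE e he => by
    rw [mem_comap, mem_centralizer_singleton_iff, eq_comm, ← commutatorElement_eq_one_iff_mul_comm,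
      ← map_commutatorElement, QuotientGroup.mk'_apply, QuotientGroup.eq_one_iff]
    exact le_iSup₂_of_le (f := fun E _ => uSub 2 E) E hE le_rfl (comm_mem_uSub c hE (qG_le_cent c hq) he)
  rw [← QuotientGroup.eq_one_iff, ← QuotientGroup.mk'_apply, map_commutatorElement,
    commutatorElement_eq_one_iff_mul_comm]
  exact (mem_centralizer_singleton_iff.mp (hle hp)).symm

/-- `C(U) = Q`. -/
theorem cent_le (hodd : ∀ x : G, Odd (orderOf x) → x ∈ pP S) :
    centralizer (uP S : Set G) ≤ qG 2 G := by
  haveI := uP_normal c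
  haveI : (centralizer (uP S : Set G)).Normal := inferInstance
  refine Cores.le_pCore ?_
  haveI : Fact (Nat.Prime 2) := ⟨Nat.prime_two⟩
  have key : ∀ x ∈ centralizer (uP S : Set G), Odd (orderOf x) → x = 1 := by
    intro x hx ho
    obtain ⟨k, hk⟩ := ho
    have hxk : (x * x) ^ (k + 1) = x := by
      rw [← pow_two, ← pow_mul, show 2 * (k + 1) = 2 * k + 1 + 1 by ring, pow_succ, ← hk, pow_orderOf_eq_one,
        one_mul]
    have hxC : x ∈ centralizer (pP S : Set G) := hxk ▸ pow_mem (sq_comm_pP c hx) _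
    have hxP := hodd x ⟨k, hk⟩
    -- `x` centralises the two-core
    have hxQ : x ∈ centralizer (qG 2 G : Set G) := mem_centralizer_iff.mpr fun q hq => by
      have hz : ⁅x, q⁆ ∈ qG 2 G := by
        rw [commutatorElement_def]
        exact mul_mem (Subgroup.Normal.conj_mem inferInstance q hq x) (inv_mem hq)
      have hzP : ⁅x, q⁆ ∈ pP S := by
        haveI := pP_normal c
        rw [show ⁅x, q⁆ = x * (q * x⁻¹ * q⁻¹) by rw [commutatorElement_def]; group]
        exact mul_mem hxP (Subgroup.Normal.conj_mem inferInstance _ (inv_mem hxP) q)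
      set z := ⁅x, q⁆
      have hxz : x * z = z * x := (mem_centralizer_iff.mp hxC z hzP).symm
      have h1 : x * q = z * q * x := by simp [z, commutatorElement_def]
      have hn : ∀ n : ℕ, x ^ n * q = z ^ n * q * x ^ n := by
        intro n
        induction n with
        | zero => simp
        | succ n ih =>
          calc x ^ (n + 1) * q = x * (x ^ n * q) := by rw [pow_succ', mul_assoc]
            _ = (x * z ^ n) * (q * x ^ n) := by rw [ih]; simp only [mul_assoc]
            _ = z ^ n * (x * q) * x ^ n := by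
                rw [((show Commute x z from hxz).pow_right n).eq]; simp only [mul_assoc]
            _ = _ := by rw [h1, pow_succ z, pow_succ' x]; simp only [mul_assoc]
      have h2 := hn (orderOf x)
      rw [pow_orderOf_eq_one, one_mul, mul_one, right_eq_mul] at h2
      obtain ⟨m, hm⟩ := Cores.pCore_isPGroup (p := 2) (G := G) ⟨z, hz⟩
      have h3 : orderOf z ∣ Nat.gcd (orderOf x) (2 ^ m) :=
        Nat.dvd_gcd (orderOf_dvd_of_pow_eq_one h2) (orderOf_dvd_of_pow_eq_one (congrArg Subtype.val hm))
      have hco : Nat.Coprime (orderOf x) (2 ^ m) :=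
        Nat.Coprime.pow_right _ (Nat.coprime_two_right.mpr ⟨k, hk⟩)
      rw [hco, Nat.dvd_one, orderOf_eq_one_iff] at h3
      exact (commutatorElement_eq_one_iff_mul_comm.mp h3).symm
    have hmem : x ∈ qG 2 G := c.hG hxQ
    obtain ⟨m, hm⟩ := Cores.pCore_isPGroup (p := 2) (G := G) ⟨x, hmem⟩
    have hd : orderOf x ∣ 2 ^ m := orderOf_dvd_of_pow_eq_one (congrArg Subtype.val hm)
    have hco : Nat.Coprime (orderOf x) (2 ^ m) := Nat.Coprime.pow_right _ (Nat.coprime_two_right.mpr ⟨k, hk⟩)
    exact orderOf_eq_one_iff.mp (Nat.eq_one_of_dvd_coprimes hco dvd_rfl hd)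
  intro ⟨x, hx⟩
  obtain ⟨m, r, hr, hn⟩ := Nat.exists_eq_two_pow_mul_odd (orderOf_pos x).ne'
  refine ⟨m, Subtype.ext ?_⟩
  show x ^ 2 ^ m = 1
  refine key _ (pow_mem hx _) ?_
  rw [orderOf_pow' x (pow_ne_zero m two_ne_zero), hn, Nat.gcd_eq_right (dvd_mul_right _ _),
    Nat.mul_div_cancel_left _ (pow_pos (by norm_num) m)]
  exact hr

/-- The module of one member and the part centralised by it generate. -/
theorem uP_le_sup {E : Subgroup G} (h : Member S E) :
    uP S ≤ uSub 2 E ⊔ (uP S ⊓ centralizer (E : Set G)) := by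
  refine iSup₂_le fun F hF => ?_
  rcases h.eq_or_commute c hF with rfl | h0
  · exact le_sup_left
  · refine le_trans (le_inf (le_iSup₂_of_le F hF le_rfl) ?_) le_sup_right
    rw [member_uSub_eq c hF]
    exact (qSub_le 2 F).trans (commutator_eq_bot_iff_le_centralizer.mp (by rwa [commutator_comm]))

end Cfsg.Agent.H42.QTPush
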