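import Cfsg.Agent.H42.QTPush.Engine
import Cfsg.Agent.H11.LocalC.Frame

/-!
A common normal two-subgroup: the coordinates given by one block, and the case of a natural module.
-/

set_option autoImplicit false
set_option linter.unusedSectionVars false
set_option linter.style.haveILetI false

namespace Cfsg.Agent.H42.QTPush

open Subgroup Matrix Cfsg.Agent
open Cfsg.Agent.H11.LocalC (Ctx Frame ebOf bs js)
open Cfsg.Agent.H43.Blocks (qSub wSub zSub uSub kerW Core IsCoord)
open Cfsg.Agent.H43.Blocks.Coord (mv)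
open Cfsg.Agent.H62.Blocks (upperT coe_upperT)
open scoped commutatorElement

universe u

variable {G : Type u} [Group G]

/-- Coordinates on `[W, E]` on which `J(R)` acts by transvections. -/
structure Loc (R E : Subgroup G) where
  ι : Type
  fin : Fintype ι
  F : Type
  field : Field F
  finF : Fintype F
  t : ι → G → F
  x : ι → G → F
  y : ι → G → F
  f : ι → G
  t_mul : ∀ i, ∀ a ∈ jR R, ∀ b ∈ jR R, t i (a * b) = t i a + t i b
  x_mul : ∀ i, ∀ a ∈ uSub 2 E, ∀ b ∈ uSub 2 E, x i (a * b) = x i a + x i b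
  y_mul : ∀ i, ∀ a ∈ uSub 2 E, ∀ b ∈ uSub 2 E, y i (a * b) = y i a + y i b
  zero : ∀ i, ∀ a ∈ uSub 2 E, a ∈ centralizer (E : Set G) → x i a = 0 ∧ y i a = 0
  law : ∀ i, ∀ j ∈ jR R, ∀ a ∈ uSub 2 E, x i ⁅j, a⁆ = t i j * y i a
  surj : ∀ v : ι → F, ∃ a ∈ uSub 2 E, ∀ i, y i a = v i
  ker : ∀ j ∈ jR R, (∀ i, t i j = 0) → j ∈ centralizer (uSub 2 E : Set G)
  sqC : ∀ i, ∀ q ∈ R, q ∈ normalizer (E : Set G) → (∀ v : F, ∃ j ∈ jR R, t i j = v ∧
    (∀ k, k ≠ i → t k j = 0) ∧ j * j = 1 ∧ q * j = j * q) → q * q * f i = f i * (q * q)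
  move : ∀ i, ∀ j ∈ jR R, t i j ≠ 0 → ¬ IsPGroup 2 ↥(closure ({j, f i * j * (f i)⁻¹} : Set G))
  trans : ∀ i k, ∃ g ∈ R, g ∈ normalizer (E : Set G) ∧
    ∀ j ∈ jR R, t i j = 0 ↔ t k (g * j * g⁻¹) = 0

/-- At the prime two `[W, E] = W`. -/
theorem uSub_eq_wSub {E : Subgroup G} (h : Core 2 E) : uSub 2 E = wSub 2 E := by
  have hqw : qSub 2 E = wSub 2 E := h.type.resolve_right fun he => absurd he.hp (by decide)
  have := h.QE
  rw [hqw] at this
  exact this

/-- An element of two-power order of `SL₂` in characteristic two has trace zero. -/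
theorem trace_zero_of_pow {F : Type*} [Field F] [CharP F 2] (A : SpecialLinearGroup (Fin 2) F) {k : ℕ}
    (h : A ^ 2 ^ k = 1) : (A : Matrix (Fin 2) (Fin 2) F).trace = 0 := by
  have hsq : ∀ B : SpecialLinearGroup (Fin 2) F,
      ((B ^ 2 : SpecialLinearGroup (Fin 2) F) : Matrix (Fin 2) (Fin 2) F).trace =
        (B : Matrix (Fin 2) (Fin 2) F).trace ^ 2 := by
    intro B
    have hd := B.2
    rw [Matrix.det_fin_two] at hd
    rw [pow_two B]
    show ((B : Matrix (Fin 2) (Fin 2) F) * (B : Matrix (Fin 2) (Fin 2) F)).trace = _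
    rw [Matrix.trace_fin_two, Matrix.trace_fin_two]
    simp only [Matrix.mul_apply, Fin.sum_univ_two]
    linear_combination (-2 : F) * hd + (-1 : F) * CharTwo.two_eq_zero (R := F)
  induction k generalizing A with
  | zero =>
    rw [pow_zero, pow_one] at h
    subst h
    show (1 : Matrix (Fin 2) (Fin 2) F).trace = 0
    rw [Matrix.trace_one, Fintype.card_fin]
    exact_mod_cast CharTwo.two_eq_zero (R := F)
  | succ k ih =>
    rw [pow_succ', pow_mul] at h
    have := ih (A ^ 2) h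
    rw [hsq] at this
    exact pow_eq_zero_iff (two_ne_zero) |>.mp this

variable [Finite G] {T : Sylow 2 G} {E : Subgroup G}

/-- A block with a natural module gives coordinates. -/
theorem exists_loc_lin (c : Ctx T) (h : H11.LocalC.Out T E) {F : Type} [Field F] [Fintype F] [CharP F 2]
    (fr : Frame T E F) : Nonempty (Loc (T : Subgroup G) E) := by
  classical
  have hk : Core 2 E := h.core c
  have hU := uSub_eq_wSub hk
  have hJB : jR (T : Subgroup G) ≤ bs T := H11.LocalC.js_le_bs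
  have hBN := h.baumann_le_normalizer
  let t : G → F := fun j =>
    if hj : j ∈ bs T then (fr.e ⟨j, mem_sup_right hj⟩ : Matrix (Fin 2) (Fin 2) F) 0 1 else 0
  have heU : ∀ (j : G) (hj : j ∈ bs T), fr.e ⟨j, mem_sup_right hj⟩ = upperT (t j) := fun j hj => by
    simp only [t, dif_pos hj]
    exact H11.LocalC.eq_upperT (fr.onB j hj)
  let cx : Fin 2 → G → F := fun l a =>
    if ha : a ∈ wSub 2 E then H43.Blocks.vec fr.ψ ⟨a, ha⟩ l else 0
  have cx_mul : ∀ l, ∀ a ∈ uSub 2 E, ∀ b ∈ uSub 2 E, cx l (a * b) = cx l a + cx l b := by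
    intro l a ha b hb
    rw [hU] at ha hb
    simp only [cx, dif_pos ha, dif_pos hb, dif_pos (mul_mem ha hb)]
    rw [show (⟨a * b, mul_mem ha hb⟩ : ↥(wSub 2 E)) = ⟨a, ha⟩ * ⟨b, hb⟩ from rfl]
    simp only [H43.Blocks.vec, map_mul, toAdd_mul, Pi.add_apply]
  have hact : ∀ j ∈ bs T, ∀ v, fr.coord.act j v = ![v 0 + t j * v 1, v 1] := fun j hj v => by
    rw [show j = ((⟨j, mem_sup_right hj⟩ : ↥(ebOf T E)) : G) from rfl, fr.act, heU j hj,
      H43.Blocks.Coord.vec_eta v, H43.Blocks.Coord.mv_upper]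
    simp
  obtain ⟨g, hg, hgv⟩ := H13.LocalCShape.exists_mv_axis_derived (F := F) (v := ![0, 1])
    (fun h0 => by simpa using congrFun h0 1)
  have hg10 : (g : Matrix (Fin 2) (Fin 2) F) 1 0 ≠ 0 := by
    have := congrFun hgv 1
    rw [H43.Blocks.Coord.mv_apply] at this
    intro h0
    simp [h0] at this
  obtain ⟨e, he⟩ := MonoidHom.mem_range.mp (fr.coord.range.ge hg)
  refine ⟨{
    ι := Unit
    fin := inferInstance
    F := F
    field := inferInstance
    finF := inferInstance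
    t := fun _ => t
    x := fun _ => cx 0
    y := fun _ => cx 1
    f := fun _ => (e : G)
    t_mul := ?_
    x_mul := fun _ => cx_mul 0
    y_mul := fun _ => cx_mul 1
    zero := ?_
    law := ?_
    surj := ?_
    ker := ?_
    sqC := ?_
    move := ?_
    trans := fun _ _ => ⟨1, one_mem _, one_mem _, fun j _ => by simp⟩ }⟩
  · intro _ a ha b hb
    have h1 := congrArg (fun M : SpecialLinearGroup (Fin 2) F => (M : Matrix (Fin 2) (Fin 2) F) 0 1)
      (map_mul fr.e ⟨a, mem_sup_right (hJB ha)⟩ ⟨b, mem_sup_right (hJB hb)⟩)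
    simp only [heU a (hJB ha), heU b (hJB hb)] at h1
    have h2 := heU _ (mul_mem (hJB ha) (hJB hb))
    rw [show (⟨a, mem_sup_right (hJB ha)⟩ : ↥(ebOf T E)) * ⟨b, mem_sup_right (hJB hb)⟩ =
      ⟨a * b, mem_sup_right (mul_mem (hJB ha) (hJB hb))⟩ from rfl, h2] at h1
    simpa [coe_upperT, Matrix.mul_apply, Fin.sum_univ_two, add_comm] using h1
  · intro _ a ha hc
    rw [hU] at ha
    have h0 : H43.Blocks.vec fr.ψ ⟨a, ha⟩ = 0 := fr.coord.vec_eq_zero.mpr ⟨ha, hc⟩
    simp only [cx, dif_pos ha, h0]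
    exact ⟨rfl, rfl⟩
  · intro _ j hj a ha
    rw [hU] at ha
    have hjN := hBN (hJB hj)
    have hca : j * a * j⁻¹ ∈ wSub 2 E := H43.Blocks.conj_mem_wSub hjN ha
    have hcm : ⁅j, a⁆ ∈ wSub 2 E := by rw [commutatorElement_def]; exact mul_mem hca (inv_mem ha)
    simp only [cx, dif_pos ha, dif_pos hcm]
    have h1 : (⟨⁅j, a⁆, hcm⟩ : ↥(wSub 2 E)) = ⟨_, hca⟩ * ⟨a, ha⟩⁻¹ := Subtype.ext (commutatorElement_def j a)
    have h2 : H43.Blocks.vec fr.ψ ⟨j * a * j⁻¹, hca⟩ = fr.coord.act j (H43.Blocks.vec fr.ψ ⟨a, ha⟩) :=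
      (fr.coord.act_vec hjN ⟨a, ha⟩).symm
    rw [h1]
    simp only [H43.Blocks.vec, map_mul, map_inv, toAdd_mul, toAdd_inv] at h2 ⊢
    rw [h2, hact j (hJB hj)]
    simp
  · intro v
    obtain ⟨w, hw⟩ := fr.coord.exists_vec ![0, v ()]
    refine ⟨w, hU.ge w.2, fun _ => ?_⟩
    simp only [cx, dif_pos w.2]
    show H43.Blocks.vec fr.ψ w 1 = v ()
    rw [hw]; simp
  · intro j hj h0
    refine (fr.ker ⟨j, mem_sup_right (hJB hj)⟩).mp ?_
    rw [heU j (hJB hj), h0 ()]
    exact Subtype.ext (by simp [coe_upperT, Matrix.one_fin_two])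
  · intro _ q hq hqN hlift
    set A := fr.coord.act q with hAdef
    have hcomm : ∀ v w, A ![w 0 + v * w 1, w 1] = ![A w 0 + v * A w 1, A w 1] := by
      intro v w
      obtain ⟨j, hj, rfl, -, -, hqj⟩ := hlift v
      have h1 := congrArg (fun g => fr.coord.act g w) hqj
      simp only [fr.coord.act_mul hqN (hBN (hJB hj)), fr.coord.act_mul (hBN (hJB hj)) hqN,
        AddMonoidHom.comp_apply, hact j (hJB hj)] at h1
      exact h1
    set δ := A ![0, 1] 1
    have hrow : ∀ x : F, A ![x, 0] = ![x * δ, 0] := by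
      intro x
      have h1 := hcomm x ![0, 1]
      have h2 : (![(![0, 1] : Fin 2 → F) 0 + x * (![0, 1] : Fin 2 → F) 1, (![0, 1] : Fin 2 → F) 1] :
          Fin 2 → F) = ![x, 0] + ![0, 1] := by
        funext i; fin_cases i <;> simp
      rw [h2, map_add] at h1
      have h3 : A ![x, 0] = ![A ![0, 1] 0 + x * δ, δ] - A ![0, 1] := eq_sub_of_add_eq h1
      rw [h3]
      funext i; fin_cases i <;> simp [δ]
    have hpow : ∀ (n : ℕ) (x : F), fr.coord.act (q ^ n) ![x, 0] = ![x * δ ^ n, 0] := by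
      intro n
      induction n with
      | zero => intro x; rw [pow_zero, fr.coord.act_one]; simp
      | succ n ih =>
        intro x
        rw [pow_succ', fr.coord.act_mul hqN (pow_mem hqN n), AddMonoidHom.comp_apply, ih, ← hAdef, hrow,
          pow_succ, mul_assoc]
    obtain ⟨k, hkq⟩ := T.isPGroup' ⟨q, hq⟩
    have hk' : q ^ 2 ^ k = 1 := congrArg Subtype.val hkq
    have hδk : δ ^ 2 ^ k = 1 := by
      have := congrFun (hpow (2 ^ k) 1) 0
      rw [hk', fr.coord.act_one] at this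
      simpa using this.symm
    have hδ : δ = 1 := by
      have h2 : (δ - 1) ^ 2 ^ k = 0 := by rw [sub_pow_char_pow, hδk, one_pow, sub_self]
      exact sub_eq_zero.mp (pow_eq_zero_iff (pow_ne_zero _ two_ne_zero) |>.mp h2)
    obtain ⟨β, hβ⟩ := H13.LocalCShape.up_of_fix_axis hk fr.coord hqN ⟨k, hk'⟩ fun x => by
      show A ![x, 0] = _
      rw [hrow, hδ, mul_one]
    obtain ⟨j, hj, hjβ, -, hj2, hqj⟩ := hlift β
    have hjN := hBN (hJB hj)
    have hji : j⁻¹ = j := inv_eq_of_mul_eq_one_right hj2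
    have hck : q * j ∈ kerW 2 E := by
      refine (H43.Blocks.act_id_iff_kerW hk fr.coord (mul_mem hqN hjN)).mp (AddMonoidHom.ext fun v => ?_)
      rw [fr.coord.act_mul hqN hjN, AddMonoidHom.comp_apply, hact j (hJB hj), hjβ, hβ,
        H43.Blocks.Coord.vec_eta v]
      have h0 : (2 : F) = 0 := CharTwo.two_eq_zero
      funext i
      fin_cases i
      · simp; linear_combination (β * v 1) * h0
      · simp
    have hce := hk.commutator_mem_Q hck e.2
    rw [hk.type.resolve_right fun he => absurd he.hp (by decide), ← hU] at hce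
    set c' := q * j
    set w := ⁅c', (e : G)⁆
    have hw2 : w * w = 1 := (pow_two w).symm.trans ((h.uSub_elem c).2 w hce)
    have hcw : c' * w = w * c' := (mem_centralizer_iff.mp (mem_inf.mp hck).2 w hce).symm
    have hsq : c' * c' = q * q := by
      simp only [c', mul_assoc]
      rw [← mul_assoc j q, ← hqj, mul_assoc, hj2, mul_one]
    have h1 : c' * e = w * e * c' := by simp only [w, commutatorElement_def]; group
    rw [← hsq]
    calc c' * c' * e = c' * (w * e * c') := by rw [mul_assoc, h1]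
      _ = (c' * w) * (e * c') := by simp only [mul_assoc]
      _ = w * (c' * e) * c' := by rw [hcw]; simp only [mul_assoc]
      _ = w * w * (e * (c' * c')) := by rw [h1]; simp only [mul_assoc]
      _ = _ := by rw [hw2, one_mul]
  · intro _ j hj hne hP
    set S : Subgroup G := closure ({j, (e : G) * j * (e : G)⁻¹} : Set G)
    set jj : ↥(ebOf T E) := ⟨j, mem_sup_right (hJB hj)⟩
    set ee : ↥(ebOf T E) := ⟨e, mem_sup_left e.2⟩
    have hmem : ((jj * (ee * jj * ee⁻¹) : ↥(ebOf T E)) : G) ∈ S :=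
      mul_mem (subset_closure (Or.inl rfl)) (subset_closure (Or.inr rfl))
    obtain ⟨k, hk'⟩ := hP ⟨_, hmem⟩
    have hk2 : (jj * (ee * jj * ee⁻¹)) ^ 2 ^ k = 1 := Subtype.ext (congrArg Subtype.val hk' :)
    have htr := trace_zero_of_pow (fr.e (jj * (ee * jj * ee⁻¹))) (k := k) (by rw [← map_pow, hk2, map_one])
    have hee : fr.e ee = g := (fr.onE e).trans he
    rw [map_mul, map_mul, map_mul, map_inv, hee, show fr.e jj = upperT (t j) from heU j (hJB hj)] at htr
    change ((upperT (t j) : Matrix (Fin 2) (Fin 2) F) * ((g : Matrix (Fin 2) (Fin 2) F) *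
      (upperT (t j) : Matrix (Fin 2) (Fin 2) F) * (g : Matrix (Fin 2) (Fin 2) F).adjugate)).trace = 0 at htr
    simp only [coe_upperT, Matrix.adjugate_fin_two,
      Matrix.trace_fin_two, Matrix.mul_apply, Fin.sum_univ_two] at htr
    simp at htr
    have hd := g.2
    rw [Matrix.det_fin_two] at hd
    have h0 : (2 : F) = 0 := CharTwo.two_eq_zero
    refine mul_ne_zero (pow_ne_zero 2 hne) (pow_ne_zero 2 hg10) ?_
    linear_combination -htr + 2 * hd + h0

end Cfsg.Agent.H42.QTPush
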