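import Cfsg.Agent.H42.QTPush.Loc
import Cfsg.Agent.H13.LocalCAssembly.Alt

/-!
A common normal two-subgroup: the coordinates given by a block of alternating type, one for each
transposition of the image of the Sylow subgroup.
-/

set_option autoImplicit false
set_option linter.unusedSectionVars false
set_option linter.style.haveILetI false

namespace Cfsg.Agent.H42.QTPush

open Subgroup Cfsg.Agent H43.Blocks H13.LocalCT
open Cfsg.Agent.H11.LocalC (Ctx bs)
open Cfsg.Agent.H13.LocalCAssembly (Member)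
open scoped commutatorElement

universe u

variable {G : Type u} [Group G] [Finite G] {T : Sylow 2 G} {E : Subgroup G} {n : ℕ}

/-- A product of two transpositions moving a common point is not a two-element. -/
theorem pow_two_ne_one_of_cycle {α : Type*} (P : Equiv.Perm α) {a b o : α} (hab : a ≠ b) (hao : a ≠ o)
    (h1 : P a = b) (h2 : P b = o) (h3 : P o = a) (k : ℕ) : P ^ 2 ^ k ≠ 1 := by
  intro h
  have h6 : ∀ q : ℕ, (P ^ (3 * q)) a = a := by
    intro q
    induction q with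
    | zero => simp
    | succ q ih =>
      rw [show 3 * (q + 1) = 1 + (1 + (1 + 3 * q)) by omega, pow_add, pow_add, pow_add, pow_one]
      simp [Equiv.Perm.mul_apply, ih, h1, h2, h3]
  have h7 : ∀ k : ℕ, 2 ^ k % 3 = 1 ∨ 2 ^ k % 3 = 2 := by
    intro k
    induction k with
    | zero => simp
    | succ k ih => rw [pow_succ, Nat.mul_mod]; rcases ih with e | e <;> simp [e]
  have h8 : (P ^ 2 ^ k) a = a := by rw [h]; rfl
  rw [← Nat.mod_add_div (2 ^ k) 3, pow_add, Equiv.Perm.mul_apply, h6] at h8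
  rcases h7 k with e | e <;> rw [e] at h8
  · rw [pow_one, h1] at h8
    exact hab h8.symm
  · rw [pow_two, Equiv.Perm.mul_apply, h1, h2] at h8
    exact hao h8.symm

/-- A block of alternating type of degree `2 ^ k + 1` gives coordinates. -/
theorem exists_loc_alt (c : Ctx T) (h : Member T E) (M : AltMem T E n) {k : ℕ} (hk : 1 ≤ k)
    (hn : n = 2 ^ k + 1) : Nonempty (Loc (T : Subgroup G) E) := by
  classical
  have hodd : Odd (Fintype.card (Fin n)) := by rw [Fintype.card_fin]; exact M.odd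
  have hcard : Fintype.card (Fin n) = 2 ^ k + 1 := by rw [Fintype.card_fin]; exact hn
  obtain ⟨o, ho⟩ := M.maxTwo.exists_fixed hodd
  have ho' : ∀ π ∈ M.H, π o = o := fun π hπ => by
    have h1 : π o ∈ Orb M.H o := ⟨π, hπ, rfl⟩
    rw [(ho o).mpr rfl] at h1
    exact h1
  have hJB : jR (T : Subgroup G) ≤ bs T := H11.LocalC.js_le_bs
  have hJN : jR (T : Subgroup G) ≤ normalizer (E : Set G) := hJB.trans h.baumann_le_normalizer
  have hJH : ∀ j ∈ jR (T : Subgroup G), M.σ j ∈ M.H := fun j hj =>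
    M.mem_im.mpr ⟨j, H31.thompsonSubgroupOf_le 2 _ hj, hJN hj, rfl⟩
  have hpw : ∀ j ∈ jR (T : Subgroup G), ∀ z, M.σ j z = z ∨ Equiv.swap z (M.σ j z) ∈ M.H :=
    fun j hj => H13.LocalCAssembly.baumann_pairwise c h M (hJB hj)
  let I : Type := {p : Fin n × Fin n // p.1 < p.2 ∧ Equiv.swap p.1 p.2 ∈ M.H}
  haveI : Fintype I := Fintype.ofFinite I
  have hne : ∀ i : I, i.1.1 ≠ i.1.2 := fun i => ne_of_lt i.2.1
  have hmoved : ∀ i : I, o ≠ i.1.1 ∧ o ≠ i.1.2 := fun i => by
    constructor <;> intro he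
    · have h1 := ho' _ i.2.2
      rw [he, Equiv.swap_apply_left] at h1
      exact hne i h1.symm
    · have h1 := ho' _ i.2.2
      rw [he, Equiv.swap_apply_right] at h1
      exact hne i h1
  -- the value of an element of `J` at a pair
  have hval : ∀ (i : I) (j : G), j ∈ jR (T : Subgroup G) → M.σ j i.1.1 ≠ i.1.1 →
      M.σ j i.1.1 = i.1.2 ∧ M.σ j i.1.2 = i.1.1 := by
    intro i j hj hjne
    have h1 := swap_unique M.maxTwo.pgroup i.2.2 ((hpw j hj _).resolve_left hjne) (hne i) hjne.symm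
    exact ⟨h1.symm, (M.swap_partner (hne i) i.2.2 (hJH j hj)).2 h1.symm⟩
  let t : I → G → ZMod 2 := fun i j => if M.σ j i.1.1 = i.1.1 then 0 else 1
  have t_zero : ∀ {i : I} {j : G}, t i j = 0 ↔ M.σ j i.1.1 = i.1.1 := by
    intro i j
    simp only [t]
    split_ifs with h0 <;> simp [h0]
  -- the pairs are disjoint
  have hdisj : ∀ i i' : I, (i.1.1 = i'.1.1 ∨ i.1.1 = i'.1.2 ∨ i.1.2 = i'.1.1 ∨ i.1.2 = i'.1.2) → i = i' := by
    intro i i' hh
    have s1 := i.2.2
    have s2 := i'.2.2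
    have l1 := i.2.1
    have l2 := i'.2.1
    refine Subtype.ext ?_
    rcases hh with e | e | e | e
    · rw [← e] at s2 l2
      exact Prod.ext e (swap_unique M.maxTwo.pgroup s1 s2 (ne_of_lt l1) (ne_of_lt l2))
    · rw [← e, Equiv.swap_comm] at s2
      rw [← e] at l2
      exfalso
      have := swap_unique M.maxTwo.pgroup s1 s2 (ne_of_lt l1) (ne_of_gt l2)
      rw [this] at l1
      exact lt_asymm l1 l2
    · rw [Equiv.swap_comm] at s1
      rw [← e] at s2 l2
      exfalso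
      have := swap_unique M.maxTwo.pgroup s1 s2 (ne_of_gt l1) (ne_of_lt l2)
      rw [← this] at l2
      exact lt_asymm l1 l2
    · rw [Equiv.swap_comm] at s1
      rw [← e, Equiv.swap_comm] at s2
      rw [← e] at l2
      exact Prod.ext (swap_unique M.maxTwo.pgroup s1 s2 (ne_of_gt l1) (ne_of_gt l2)) e
  -- vectors
  let pvec : G → Fin n → ZMod 2 := fun a =>
    if ha : a ∈ wSub 2 E then Alt.pv M.ψ ⟨a, ha⟩ else 0
  have hU : uSub 2 E = wSub 2 E := M.mem.wU.symm
  have pvec_mul : ∀ a ∈ wSub 2 E, ∀ b ∈ wSub 2 E, ∀ z, pvec (a * b) z = pvec a z + pvec b z := by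
    intro a ha b hb z
    simp only [pvec, dif_pos ha, dif_pos hb, dif_pos (mul_mem ha hb)]
    rw [show (⟨a * b, mul_mem ha hb⟩ : ↥(wSub 2 E)) = ⟨a, ha⟩ * ⟨b, hb⟩ from rfl]
    simp only [Alt.pv, map_mul, toAdd_mul, Pi.add_apply]
  have hcomm : ∀ j ∈ normalizer (E : Set G), ∀ a ∈ wSub 2 E, ⁅j, a⁆ ∈ wSub 2 E ∧
      ∀ z, pvec ⁅j, a⁆ z = pvec a ((M.σ j)⁻¹ z) + pvec a z := by
    intro j hj a ha
    have hca : j * a * j⁻¹ ∈ wSub 2 E := H43.Blocks.conj_mem_wSub hj ha
    have hcm : ⁅j, a⁆ ∈ wSub 2 E := by rw [commutatorElement_def]; exact mul_mem hca (inv_mem ha)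
    refine ⟨hcm, fun z => ?_⟩
    rw [commutatorElement_def, M.mem.w_inv ha, pvec_mul _ hca _ ha z]
    simp only [pvec, dif_pos hca, dif_pos ha]
    rw [M.σ_spec hj (u := ⟨a, ha⟩) (u' := ⟨_, hca⟩) rfl]
  -- a three cycle for each pair
  have hf : ∀ i : I, ∃ e : ↥E, e ^ 3 = 1 ∧ M.ρ e = Alt.cyc i.1.1 i.1.2 o := by
    intro i
    obtain ⟨hmem, -⟩ := Alt.cyc_spec (hne i) (hmoved i).2.symm (hmoved i).1.symm
    obtain ⟨e0, he0⟩ := MonoidHom.mem_range.mp (M.perm.range.ge hmem)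
    have hc3 := Alt.cyc_pow_three (hne i) (hmoved i).2.symm (hmoved i).1.symm
    have hw : ((e0 ^ 3 : ↥E) : G) ∈ wSub 2 E := by
      rw [← M.mem.qW]
      refine M.mem.data.toCore.mem_qSub_of_kerW
        ((M.σ_eq_one_iff (le_normalizer (e0 ^ 3).2)).mp ?_) (e0 ^ 3).2
      rw [M.σ_coe, map_pow, he0, hc3]
    have h6 : e0 ^ 6 = 1 := Subtype.ext (by
      rw [show 6 = 3 + 3 from rfl, pow_add]
      exact M.mem.w_sq hw)
    refine ⟨e0 ^ 4, ?_, ?_⟩
    · rw [← pow_mul, show 4 * 3 = 6 + 6 from rfl, pow_add, h6, one_mul]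
    · rw [map_pow, he0, show 4 = 3 + 1 from rfl, pow_add, hc3, one_mul, pow_one]
  choose f hf3 hfρ using hf
  refine ⟨{
    ι := I
    fin := inferInstance
    F := ZMod 2
    field := inferInstance
    finF := inferInstance
    t := t
    x := fun i a => pvec a i.1.1
    y := fun i a => pvec a i.1.1 + pvec a i.1.2
    f := fun i => (f i : G)
    t_mul := ?_
    x_mul := fun i a ha b hb => pvec_mul a (hU.le ha) b (hU.le hb) _
    y_mul := fun i a ha b hb => by
      rw [pvec_mul a (hU.le ha) b (hU.le hb), pvec_mul a (hU.le ha) b (hU.le hb)]; abel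
    zero := ?_
    law := ?_
    surj := ?_
    ker := ?_
    sqC := ?_
    move := ?_
    trans := ?_ }⟩
  · intro i a ha b hb
    have hmul := M.σ_mul (hJN ha) (hJN hb)
    by_cases h1 : M.σ a i.1.1 = i.1.1 <;> by_cases h2 : M.σ b i.1.1 = i.1.1
    · simp [t, hmul, h1, h2]
    · obtain ⟨hb1, -⟩ := hval i b hb h2
      have ha2 := (M.swap_partner (hne i) i.2.2 (hJH a ha)).1 h1
      simp [t, hmul, h1, hb1, ha2, (hne i).symm]
    · obtain ⟨ha1, -⟩ := hval i a ha h1
      simp [t, hmul, h2, ha1, (hne i).symm]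
    · obtain ⟨hb1, -⟩ := hval i b hb h2
      obtain ⟨ha1, ha2⟩ := hval i a ha h1
      simp [t, hmul, hb1, ha1, ha2, (hne i).symm]
      decide
  · intro i a ha hc
    have hz := M.pv_eq_zero_of_mem_centralizer (hU.le ha) hc
    simp only [pvec, dif_pos (hU.le ha), hz, Pi.zero_apply]
    simp
  · intro i j hj a ha
    rw [(hcomm j (hJN hj) a (hU.le ha)).2]
    simp only [t]
    split_ifs with h0
    · rw [Equiv.Perm.inv_eq_iff_eq.mpr h0.symm, CharTwo.add_self_eq_zero, zero_mul]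
    · rw [Equiv.Perm.inv_eq_iff_eq.mpr (hval i j hj h0).2.symm, one_mul, add_comm]
  · intro v
    let w : Fin n → ZMod 2 := fun z => ∑ i : I, v i * Alt.pairVec i.1.1 o z
    have hw : ∑ z, w z = 0 := by
      rw [Finset.sum_comm]
      refine Finset.sum_eq_zero fun i _ => ?_
      rw [← Finset.mul_sum, Alt.pairVec_sum (hmoved i).1.symm, mul_zero]
    obtain ⟨u, hu⟩ := M.perm.surj w hw
    refine ⟨u, hU.ge u.2, fun i => ?_⟩
    simp only [pvec, dif_pos u.2]
    rw [show (⟨(u : G), u.2⟩ : ↥(wSub 2 E)) = u from rfl, hu]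
    show (∑ i' : I, v i' * Alt.pairVec i'.1.1 o i.1.1) + ∑ i' : I, v i' * Alt.pairVec i'.1.1 o i.1.2 = v i
    rw [← Finset.sum_add_distrib, Finset.sum_eq_single i]
    · simp [Alt.pairVec, (hne i).symm, (hmoved i).2.symm]
    · intro i' _ hii
      have e1 : i.1.1 ≠ i'.1.1 := fun e => hii (hdisj i i' (Or.inl e)).symm
      have e2 : i.1.2 ≠ i'.1.1 := fun e => hii (hdisj i i' (Or.inr (Or.inr (Or.inl e)))).symm
      simp [Alt.pairVec, e1, e2, (hmoved i).1.symm, (hmoved i).2.symm]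
    · simp
  · intro j hj h0
    refine (mem_inf.mp ((M.σ_eq_one_iff (hJN hj)).mp ?_)).2
    refine Equiv.ext fun z => ?_
    by_contra hz
    have hs := (hpw j hj z).resolve_left hz
    rcases lt_or_gt_of_ne hz with hlt | hgt
    · have h1 := t_zero.mp (h0 ⟨(M.σ j z, z), hlt, by rwa [Equiv.swap_comm]⟩)
      exact hz ((M.σ j).injective h1)
    · exact hz (t_zero.mp (h0 ⟨(z, M.σ j z), hgt, hs⟩))
  · intro i q hq hqN hlift
    obtain ⟨j, hj, hj1, hj0, hj2, hqj⟩ := hlift 1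
    have hjN := hJN hj
    have hja : M.σ j i.1.1 ≠ i.1.1 := fun e => by rw [t_zero.mpr e] at hj1; exact zero_ne_one hj1
    obtain ⟨hja1, hja2⟩ := hval i j hj hja
    have hjs : M.σ j = Equiv.swap i.1.1 i.1.2 := by
      refine Equiv.ext fun z => ?_
      by_cases e1 : z = i.1.1
      · rw [e1, hja1, Equiv.swap_apply_left]
      by_cases e2 : z = i.1.2
      · rw [e2, hja2, Equiv.swap_apply_right]
      rw [Equiv.swap_apply_of_ne_of_ne e1 e2]
      by_contra hz
      have hs := (hpw j hj z).resolve_left hz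
      rcases lt_or_gt_of_ne hz with hlt | hgt
      · set i' : I := ⟨(M.σ j z, z), hlt, by rwa [Equiv.swap_comm]⟩
        have hne' : i' ≠ i := fun e => e2 (by rw [← e])
        exact hz ((M.σ j).injective (t_zero.mp (hj0 i' hne')))
      · set i' : I := ⟨(z, M.σ j z), hgt, hs⟩
        have hne' : i' ≠ i := fun e => e1 (by rw [← e])
        exact hz (t_zero.mp (hj0 i' hne'))
    have hqH : M.σ q ∈ M.H := M.mem_im.mpr ⟨q, hq, hqN, rfl⟩
    have hqa : M.σ q i.1.1 = i.1.1 ∨ M.σ q i.1.1 = i.1.2 := by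
      have h1 := congrArg M.σ hqj
      rw [M.σ_mul hqN hjN, M.σ_mul hjN hqN, hjs] at h1
      have h2 : M.σ q i.1.2 = Equiv.swap i.1.1 i.1.2 (M.σ q i.1.1) := by
        have := congrArg (fun π : Equiv.Perm (Fin n) => π i.1.1) h1
        simpa using this
      by_contra hcon
      push Not at hcon
      rw [Equiv.swap_apply_of_ne_of_ne hcon.1 hcon.2] at h2
      exact hne i ((M.σ q).injective h2.symm)
    obtain ⟨q', hq'N, hqq, hq'a⟩ : ∃ q' : G, q' ∈ normalizer (E : Set G) ∧ q' * q' = q * q ∧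
        (M.σ q' i.1.1 = i.1.1 ∧ M.σ q' i.1.2 = i.1.2 ∧ M.σ q' o = o) := by
      obtain ⟨p1, p2⟩ := M.swap_partner (hne i) i.2.2 hqH
      rcases hqa with e | e
      · exact ⟨q, hqN, rfl, e, p1 e, ho' _ hqH⟩
      · refine ⟨q * j, mul_mem hqN hjN, ?_, ?_, ?_, ?_⟩
        · simp only [mul_assoc]
          rw [← mul_assoc j q, ← hqj, mul_assoc, hj2, mul_one]
        · rw [M.σ_mul hqN hjN, hjs, Equiv.Perm.mul_apply, Equiv.swap_apply_left, p2 e]
        · rw [M.σ_mul hqN hjN, hjs, Equiv.Perm.mul_apply, Equiv.swap_apply_right, e]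
        · rw [M.σ_mul hqN hjN, hjs, Equiv.Perm.mul_apply,
            Equiv.swap_apply_of_ne_of_ne (hmoved i).1 (hmoved i).2, ho' _ hqH]
    obtain ⟨ga, gb, go⟩ := hq'a
    set e : G := (f i : G) with he
    have heN : e ∈ normalizer (E : Set G) := le_normalizer (f i).2
    have he3 : e * e * e = 1 := by
      have := congrArg Subtype.val (hf3 i)
      simpa [pow_succ, he] using this
    have heσ : M.σ e = Alt.cyc i.1.1 i.1.2 o := (M.σ_coe (f i)).trans (hfρ i)
    set w := q' * e * q'⁻¹ * e⁻¹ with hwdef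
    have hwE : w ∈ E := mul_mem ((mem_normalizer_iff.mp hq'N e).mp (f i).2) (E.inv_mem (f i).2)
    have hwN : w ∈ normalizer (E : Set G) := le_normalizer hwE
    have hwW : w ∈ wSub 2 E := by
      rw [← M.mem.qW]
      refine M.mem.data.toCore.mem_qSub_of_kerW ((M.σ_eq_one_iff hwN).mp ?_) hwE
      rw [M.σ_mul (mul_mem (mul_mem hq'N heN) (inv_mem hq'N)) (inv_mem heN),
        M.σ_mul (mul_mem hq'N heN) (inv_mem hq'N), M.σ_mul hq'N heN, M.σ_inv hq'N, M.σ_inv heN, heσ,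
        Alt.cyc]
      have h1 : M.σ q' * (Equiv.swap i.1.1 i.1.2 * Equiv.swap i.1.2 o) * (M.σ q')⁻¹ =
          Equiv.swap i.1.1 i.1.2 * Equiv.swap i.1.2 o := by
        rw [show M.σ q' * (Equiv.swap i.1.1 i.1.2 * Equiv.swap i.1.2 o) * (M.σ q')⁻¹ =
          (M.σ q' * Equiv.swap i.1.1 i.1.2 * (M.σ q')⁻¹) * (M.σ q' * Equiv.swap i.1.2 o * (M.σ q')⁻¹) by group,
          ← Equiv.swap_apply_apply, ← Equiv.swap_apply_apply, ga, gb, go]
      rw [h1, mul_inv_cancel]
    have hcube : (w * e) * (w * e) * (w * e) = 1 := by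
      rw [show w * e = q' * e * q'⁻¹ by simp [w]]
      calc q' * e * q'⁻¹ * (q' * e * q'⁻¹) * (q' * e * q'⁻¹) = q' * (e * e * e) * q'⁻¹ := by group
        _ = 1 := by rw [he3]; group
    obtain ⟨hspec, hca, hcb, hco, hcfix⟩ := Alt.cyc_spec (hne i) (hmoved i).2.symm (hmoved i).1.symm
    have hout : ∀ z, z ≠ i.1.1 → z ≠ i.1.2 → z ≠ o → pvec w z = 0 := by
      intro z z1 z2 z3
      have hw1 : e * w * e⁻¹ ∈ wSub 2 E := H43.Blocks.conj_mem_wSub heN hwW
      have hw2 : e * e * w * (e * e)⁻¹ ∈ wSub 2 E := H43.Blocks.conj_mem_wSub (mul_mem heN heN) hwW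
      have hprod : w * (e * w * e⁻¹) * (e * e * w * (e * e)⁻¹) = 1 := by
        calc w * (e * w * e⁻¹) * (e * e * w * (e * e)⁻¹)
            = (w * e) * (w * e) * (w * e) * (e * e * e)⁻¹ := by group
          _ = 1 := by rw [hcube, he3]; group
      have h1 : pvec (w * (e * w * e⁻¹) * (e * e * w * (e * e)⁻¹)) z = 0 := by
        rw [hprod]
        have := pvec_mul 1 (one_mem _) 1 (one_mem _) z
        rw [one_mul, left_eq_add] at this
        exact this
      rw [pvec_mul _ (mul_mem hwW hw1) _ hw2, pvec_mul _ hwW _ hw1] at h1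
      have hinv : (M.σ e)⁻¹ z = z := by
        rw [Equiv.Perm.inv_eq_iff_eq, heσ, hcfix z z1 z2 z3]
      have e1 : pvec (e * w * e⁻¹) z = pvec w z := by
        simp only [pvec, dif_pos hw1, dif_pos hwW]
        rw [M.σ_spec heN (u := ⟨w, hwW⟩) (u' := ⟨_, hw1⟩) rfl]
        simp only [hinv]
      have e2 : pvec (e * e * w * (e * e)⁻¹) z = pvec w z := by
        simp only [pvec, dif_pos hw2, dif_pos hwW]
        rw [M.σ_spec (mul_mem heN heN) (u := ⟨w, hwW⟩) (u' := ⟨_, hw2⟩) rfl, M.σ_mul heN heN]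
        simp only [mul_inv_rev, Equiv.Perm.mul_apply, hinv]
      rw [e1, e2, CharTwo.add_self_eq_zero, zero_add] at h1
      exact h1
    have hcw : q' * w = w * q' := by
      refine (M.fix_iff hq'N ⟨w, hwW⟩).mpr fun z => ?_
      by_cases z1 : z = i.1.1
      · rw [z1, ga]
      by_cases z2 : z = i.1.2
      · rw [z2, gb]
      by_cases z3 : z = o
      · rw [z3, go]
      have hz := hout z z1 z2 z3
      have hz' := hout (M.σ q' z) (fun h => z1 ((M.σ q').injective (h.trans ga.symm)))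
        (fun h => z2 ((M.σ q').injective (h.trans gb.symm)))
        (fun h => z3 ((M.σ q').injective (h.trans go.symm)))
      simp only [pvec, dif_pos hwW] at hz hz'
      rw [hz, hz']
    show q * q * e = e * (q * q)
    have h1 : q' * e = w * e * q' := by simp [w]
    rw [← hqq]
    calc q' * q' * e = q' * (w * e * q') := by rw [mul_assoc, h1]
      _ = (q' * w) * (e * q') := by simp only [mul_assoc]
      _ = w * (q' * e) * q' := by rw [hcw]; simp only [mul_assoc]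
      _ = w * w * (e * (q' * q')) := by rw [h1]; simp only [mul_assoc]
      _ = _ := by rw [M.mem.w_sq hwW, one_mul]
  · intro i j hj hne0 hP
    have hja : M.σ j i.1.1 ≠ i.1.1 := fun e => hne0 (t_zero.mpr e)
    obtain ⟨ha1, ha2⟩ := hval i j hj hja
    have hjo : M.σ j o = o := ho' _ (hJH j hj)
    set e : G := (f i : G)
    have heN : e ∈ normalizer (E : Set G) := le_normalizer (f i).2
    have heσ : M.σ e = Alt.cyc i.1.1 i.1.2 o := (M.σ_coe (f i)).trans (hfρ i)
    have hcN : e * j * e⁻¹ ∈ normalizer (E : Set G) := mul_mem (mul_mem heN (hJN hj)) (inv_mem heN)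
    obtain ⟨m, hm⟩ := hP ⟨j * (e * j * e⁻¹), mul_mem (subset_closure (Or.inl rfl))
      (subset_closure (Or.inr rfl))⟩
    have h1 : (j * (e * j * e⁻¹)) ^ 2 ^ m = 1 := congrArg Subtype.val hm
    have h2 : M.σH ⟨_, mul_mem (hJN hj) hcN⟩ ^ 2 ^ m = 1 := by
      rw [← map_pow, show (⟨_, mul_mem (hJN hj) hcN⟩ : ↥(normalizer (E : Set G))) ^ 2 ^ m = 1 from
        Subtype.ext h1, map_one]
    obtain ⟨-, hca, hcb, hco, -⟩ := Alt.cyc_spec (hne i) (hmoved i).2.symm (hmoved i).1.symm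
    have hσ : M.σH ⟨_, mul_mem (hJN hj) hcN⟩ = M.σ j * (M.σ e * M.σ j * (M.σ e)⁻¹) := by
      show M.σ (j * (e * j * e⁻¹)) = _
      rw [M.σ_mul (hJN hj) hcN, M.σ_mul (mul_mem heN (hJN hj)) (inv_mem heN), M.σ_mul heN (hJN hj),
        M.σ_inv heN]
    rw [hσ, heσ] at h2
    have hia : (Alt.cyc i.1.1 i.1.2 o)⁻¹ i.1.1 = o := Equiv.Perm.inv_eq_iff_eq.mpr hco.symm
    have hib : (Alt.cyc i.1.1 i.1.2 o)⁻¹ i.1.2 = i.1.1 := Equiv.Perm.inv_eq_iff_eq.mpr hca.symm
    have hio : (Alt.cyc i.1.1 i.1.2 o)⁻¹ o = i.1.2 := Equiv.Perm.inv_eq_iff_eq.mpr hcb.symm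
    refine pow_two_ne_one_of_cycle _ (hne i) (hmoved i).1.symm ?_ ?_ ?_ m h2
    · simp [Equiv.Perm.mul_apply, hia, hjo, hco, ha1]
    · simp [Equiv.Perm.mul_apply, hib, ha1, hcb, hjo]
    · simp [Equiv.Perm.mul_apply, hio, ha2, hca]
  · intro i i'
    have hmv : ∀ i : I, Orb M.H i.1.1 ≠ {i.1.1} := fun i h0 => by
      have : i.1.2 ∈ Orb M.H i.1.1 := ⟨_, i.2.2, Equiv.swap_apply_left _ _⟩
      rw [h0] at this
      exact hne i (Set.mem_singleton_iff.mp this).symm
    have horb := M.maxTwo.orb_eq_of_two_pow hodd hk hcard (hmv i) (hmv i')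
    obtain ⟨π, hπ, hπa⟩ : i'.1.1 ∈ Orb M.H i.1.1 := horb ▸ mem_orb_self _
    obtain ⟨g, hg, hgN, rfl⟩ := M.mem_im.mp hπ
    refine ⟨g, hg, hgN, fun j hj => ?_⟩
    rw [t_zero, t_zero, M.σ_mul (mul_mem hgN (hJN hj)) (inv_mem hgN), M.σ_mul hgN (hJN hj),
      M.σ_inv hgN]
    simp only [Equiv.Perm.mul_apply]
    rw [Equiv.Perm.inv_eq_iff_eq.mpr hπa.symm, ← hπa]
    exact (M.σ g).injective.eq_iff.symm

end Cfsg.Agent.H42.QTPush
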