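import Cfsg.Agent.H42.QTPush.LocAlt
import Cfsg.Agent.H13.LocalCT.Main

/-!
A common normal two-subgroup: every member gives coordinates.
-/

set_option autoImplicit false
set_option linter.unusedSectionVars false
set_option linter.style.haveILetI false

namespace Cfsg.Agent.H42.QTPush

open Subgroup Matrix Cfsg.Agent H43.Blocks H13.LocalCT
open Cfsg.Agent.H11.LocalC (Ctx bs)
open Cfsg.Agent.H13.LocalCAssembly (Member)
open scoped commutatorElement

universe u

/-- The matrix of a permutation of three points on the vectors of even weight. -/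
def threeMat (σ : Equiv.Perm (Fin 3)) : Matrix (Fin 2) (Fin 2) (ZMod 2) :=
  Matrix.of fun i j => Alt.pairVec (Fin.castSucc j) (2 : Fin 3) (σ⁻¹ (Fin.castSucc i))

theorem threeMat_det : ∀ σ : Equiv.Perm (Fin 3), (threeMat σ).det = 1 := by
  simp only [Matrix.det_fin_two]
  decide +kernel

theorem threeMat_mul : ∀ σ τ : Equiv.Perm (Fin 3), threeMat (σ * τ) = threeMat σ * threeMat τ := by
  decide +kernel

theorem threeMat_inj : ∀ σ : Equiv.Perm (Fin 3), threeMat σ = 1 → σ = 1 := by
  decide +kernel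

theorem threeMat_surj : ∀ M : Matrix (Fin 2) (Fin 2) (ZMod 2),
    M 0 0 * M 1 1 - M 0 1 * M 1 0 = 1 → ∃ σ : Equiv.Perm (Fin 3), threeMat σ = M := by
  decide +kernel

theorem threeMat_act : ∀ (σ : Equiv.Perm (Fin 3)) (v : Fin 3 → ZMod 2), ∑ i, v i = 0 →
    (threeMat σ).mulVec ![v 0, v 1] = ![v (σ⁻¹ 0), v (σ⁻¹ 1)] := by
  decide +kernel

theorem even_ext_three : ∀ v : Fin 3 → ZMod 2, ∑ i, v i = 0 → v 0 = 0 → v 1 = 0 → v = 0 := by
  decide +kernel

theorem even_of_two : ∀ a b : ZMod 2, ∑ i, (![a, b, a + b] : Fin 3 → ZMod 2) i = 0 := by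
  decide +kernel

/-- The representation of the symmetric group of degree three in `SL₂` over two elements. -/
def threeHom : Equiv.Perm (Fin 3) →* SpecialLinearGroup (Fin 2) (ZMod 2) :=
  MonoidHom.mk' (fun σ => ⟨threeMat σ, threeMat_det σ⟩) fun σ τ => Subtype.ext (threeMat_mul σ τ)

theorem threeHom_alt : (alternatingGroup (Fin 3)).map threeHom =
    commutator (SpecialLinearGroup (Fin 2) (ZMod 2)) := by
  symm
  refine eq_of_le_of_card_ge ?_ ?_
  · refine commutator_le.mpr fun a _ b _ => ?_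
    obtain ⟨σ, hσ⟩ := threeMat_surj a.1 (by rw [← Matrix.det_fin_two]; exact a.2)
    obtain ⟨τ, hτ⟩ := threeMat_surj b.1 (by rw [← Matrix.det_fin_two]; exact b.2)
    refine ⟨⁅σ, τ⁆, ?_, ?_⟩
    · show ⁅σ, τ⁆ ∈ alternatingGroup (Fin 3)
      rw [Equiv.Perm.mem_alternatingGroup, map_commutatorElement, commutatorElement_eq_one_iff_mul_comm,
        mul_comm]
    · rw [map_commutatorElement, show threeHom σ = a from Subtype.ext hσ,
        show threeHom τ = b from Subtype.ext hτ]
  · rw [card_map_of_injective ((injective_iff_map_eq_one threeHom).mpr fun σ h =>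
      threeMat_inj σ (congrArg Subtype.val h))]
    rcases (derived_small (F := ZMod 2) (by rw [ZMod.card]; omega)).1 with ⟨-, h⟩ | ⟨h, -⟩
    · rw [h, nat_card_alternatingGroup, Nat.card_fin]; rfl
    · rw [ZMod.card] at h; omega

variable {G : Type u} [Group G]

/-- The module of degree three is the natural module over two elements. -/
theorem acts_sl2_of_three {E U U₀ : Subgroup G}
    (h : Cfsg.ActsAsOddPermModuleOnSection 3 (alternatingGroup (Fin 3)) E U U₀) :
    Cfsg.ActsAsSL2OnSection (ZMod 2) (commutator (SpecialLinearGroup (Fin 2) (ZMod 2))) E U U₀ := by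
  obtain ⟨h1, h2, ρ, ψ, hr, he, hs, hk, hc⟩ := h
  refine ⟨h1, h2, threeHom.comp ρ, MonoidHom.mk' (fun u => Multiplicative.ofAdd
    ![Multiplicative.toAdd (ψ u) 0, Multiplicative.toAdd (ψ u) 1]) (fun u v => ?_), ?_, ?_, ?_, ?_⟩
  · rw [← ofAdd_add, map_mul, toAdd_mul]
    refine congrArg _ (funext fun i => ?_)
    fin_cases i <;> rfl
  · rw [MonoidHom.range_comp, hr, threeHom_alt]
  · intro w
    obtain ⟨a, ha⟩ := hs ![Multiplicative.toAdd w 0, Multiplicative.toAdd w 1,
      Multiplicative.toAdd w 0 + Multiplicative.toAdd w 1] (even_of_two _ _)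
    refine ⟨a, Multiplicative.toAdd.injective (funext fun i => ?_)⟩
    show (![Multiplicative.toAdd (ψ a) 0, Multiplicative.toAdd (ψ a) 1] : Fin 2 → ZMod 2) i = _
    rw [ha]
    fin_cases i <;> rfl
  · intro u
    rw [← hk u]
    constructor
    · intro h0
      have h0' : (![Multiplicative.toAdd (ψ u) 0, Multiplicative.toAdd (ψ u) 1] : Fin 2 → ZMod 2) = 0 :=
        Multiplicative.ofAdd.injective h0
      exact Multiplicative.toAdd.injective
        (even_ext_three _ (he u) (congrFun h0' 0) (congrFun h0' 1))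
    · intro h0
      show Multiplicative.ofAdd _ = 1
      rw [h0]
      exact congrArg Multiplicative.ofAdd (funext fun i => by fin_cases i <;> rfl)
  · intro e u
    obtain ⟨w, hw, hwψ⟩ := hc e u
    refine ⟨w, hw, ?_⟩
    show (![Multiplicative.toAdd (ψ w) 0, Multiplicative.toAdd (ψ w) 1] : Fin 2 → ZMod 2) =
      (threeMat (ρ e)).mulVec ![Multiplicative.toAdd (ψ u) 0, Multiplicative.toAdd (ψ u) 1]
    rw [threeMat_act _ _ (he u), hwψ 0, hwψ 1]

variable [Finite G] {T : Sylow 2 G} {E : Subgroup G}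

/-- Every member gives coordinates. -/
theorem exists_loc (c : Ctx T) (h : Member T E)
    (hdeg : ∀ m : ℕ, Nonempty (↥E ⧸ Cfsg.pCore 2 ↥E ≃* ↥(alternatingGroup (Fin (2 * m + 1)))) →
      ∃ k : ℕ, 2 * m + 1 = 2 ^ k + 1) : Nonempty (Loc (T : Subgroup G) E) := by
  obtain ⟨-, -, -, -, hcase⟩ := h.block
  rcases hcase with ⟨F, iF, iFt, n, hn, -, hact, -⟩ | ⟨-, m, ⟨e₀⟩, hact, -⟩
  · letI := iF
    letI := iFt
    haveI : CharP F 2 := charP_of_card hn
    obtain ⟨fr⟩ := H11.LocalC.exists_frame c h.toOut hact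
    exact exists_loc_lin c h.toOut fr
  rcases (by omega : m = 0 ∨ m = 1 ∨ 2 ≤ m) with hm | hm | hm
  · subst hm
    refine absurd (fun x hx => h.qSub_le_cs c ⟨⟨x, hx⟩, (QuotientGroup.eq_one_iff _).mp ?_, rfl⟩) h.out
    haveI : Subsingleton ↥(alternatingGroup (Fin (2 * 0 + 1))) :=
      ⟨fun a b => Subtype.ext (Equiv.ext fun x => Fin.ext (by omega))⟩
    exact e₀.injective (Subsingleton.elim _ _)
  · subst hm
    haveI : CharP (ZMod 2) 2 := ZMod.charP 2
    obtain ⟨fr⟩ := H11.LocalC.exists_frame c h.toOut (acts_sl2_of_three hact)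
    exact exists_loc_lin c h.toOut fr
  · obtain ⟨k, hk⟩ := hdeg m ⟨e₀⟩
    have hk1 : 1 ≤ k := by
      rcases Nat.eq_zero_or_pos k with rfl | hk1
      · rw [pow_zero] at hk; omega
      · exact hk1
    obtain ⟨M⟩ := AltMem.of_mem (H13.LocalCAssembly.Member.toMem c h) hm hact
    exact exists_loc_alt c h M hk1 hk

end Cfsg.Agent.H42.QTPush
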