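import Cfsg.Agent.H42.QTPush.Global
import Cfsg.Agent.H13.LocalCT.Final
import Cfsg.Agent.H11.PushUpMin.Hyp
import Cfsg.Agent.H29.KM.Plane
import Cfsg.Agent.PGroups.Basic
import Cfsg.Prelude.Def_Quasithin

/-!
A common normal two-subgroup for two subgroups over a Sylow two-subgroup of a group of even characteristic.
-/

set_option autoImplicit false
set_option linter.unusedSectionVars false
set_option linter.style.haveILetI false

namespace Cfsg.Agent.H42.QTPush

open Subgroup Cfsg.Agent H43.Blocks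
open Cfsg.Agent.H11.LocalC (Ctx bs cs qG conjS mem_conjS conjS_conjS conjS_one conjS_mono conjS_eq_self)
open Cfsg.Agent.H13.LocalCAssembly (Member)
open scoped commutatorElement

universe u

variable {G : Type u} [Group G] [Finite G]

theorem mem_normalizer_map_subtype {H : Subgroup G} (N : Subgroup ↥H) [N.Normal] {h : G} (hh : h ∈ H) :
    h ∈ normalizer (N.map H.subtype : Set G) :=
  le_normalizer_map H.subtype (mem_map_of_mem H.subtype
    (show (⟨h, hh⟩ : ↥H) ∈ normalizer (N : Set ↥H) by rw [normalizer_eq_top]; exact mem_top _))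

/-- A subgroup between a Sylow subgroup and a two-local subgroup has characteristic two. -/
theorem char_two_of_le_local (hE : Cfsg.IsOfEvenCharacteristic G) (T : Sylow 2 G) {P H : Subgroup G}
    (hP : IsPGroup 2 P) (hP1 : P ≠ ⊥) (hTH : (T : Subgroup G) ≤ H) (hHP : H ≤ normalizer (P : Set G)) :
    centralizer (Cfsg.pCore 2 ↥H : Set ↥H) ≤ Cfsg.pCore 2 ↥H := by
  set L := normalizer (P : Set G)
  have hL : centralizer (Cfsg.pCore 2 ↥L : Set ↥L) ≤ Cfsg.pCore 2 ↥L :=
    hE L ⟨P, hP, hP1, rfl⟩ ⟨T, hTH.trans hHP⟩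
  set O := (Cfsg.pCore 2 ↥L).map L.subtype
  have hOT : O ≤ (T : Subgroup G) := by
    rintro _ ⟨y, hy, rfl⟩
    have := Cores.pCore_le_sylow (T.subtype (hTH.trans hHP)) hy
    rw [Sylow.coe_subtype] at this
    exact this
  have hOn : H ≤ normalizer (O : Set G) := fun h hh => mem_normalizer_map_subtype _ (hHP hh)
  haveI : (O.subgroupOf H).Normal := normal_subgroupOf_of_le_normalizer hOn
  have hO : O.subgroupOf H ≤ Cfsg.pCore 2 ↥H :=
    Cores.le_pCore ((T.isPGroup'.to_le hOT).comap_subtype)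
  intro x hx
  refine hO (mem_subgroupOf.mpr ?_)
  refine ⟨⟨x, hHP x.2⟩, hL (mem_centralizer_iff.mpr fun y hy => Subtype.ext ?_), rfl⟩
  have hyO : (y : G) ∈ O := mem_map_of_mem L.subtype hy
  exact (congrArg Subtype.val
    (mem_centralizer_iff.mp hx ⟨(y : G), hTH (hOT hyO)⟩ (hO (mem_subgroupOf.mpr hyO))) :)

/-- A product of an element of `P` and a two-element of odd order lies in `P`. -/
theorem mem_of_odd_mul {P : Subgroup G} {p t : G} (hp : p ∈ P) (ht : t ∈ normalizer (P : Set G)) {m : ℕ}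
    (htm : t ^ 2 ^ m = 1) (ho : Odd (orderOf (p * t))) : p * t ∈ P := by
  have hn : ∀ n : ℕ, ∃ p' ∈ P, (p * t) ^ n = p' * t ^ n := by
    intro n
    induction n with
    | zero => exact ⟨1, one_mem _, by simp⟩
    | succ n ih =>
      obtain ⟨p', hp', he⟩ := ih
      refine ⟨p * (t * p' * t⁻¹), mul_mem hp ((mem_normalizer_iff.mp ht p').mp hp'), ?_⟩
      rw [pow_succ', he, pow_succ' t]
      group
  obtain ⟨p', hp', he⟩ := hn (orderOf (p * t))
  rw [pow_orderOf_eq_one] at he
  have h1 : t ^ orderOf (p * t) ∈ P := by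
    rw [eq_inv_of_mul_eq_one_right he.symm]
    exact inv_mem hp'
  refine mul_mem hp ?_
  obtain ⟨k, hk⟩ := ho
  have hg : Int.gcd (orderOf (p * t) : ℤ) ((2 : ℕ) ^ m : ℕ) = 1 := by
    rw [Int.gcd_natCast_natCast]
    exact Nat.Coprime.pow_right _ (Nat.coprime_two_right.mpr ⟨k, hk⟩)
  have h2 := Int.gcd_eq_gcd_ab (orderOf (p * t) : ℤ) ((2 : ℕ) ^ m : ℕ)
  rw [hg] at h2
  have h3 : t = (t ^ orderOf (p * t)) ^ Int.gcdA (orderOf (p * t) : ℤ) ((2 : ℕ) ^ m : ℕ) := by
    conv_lhs => rw [← zpow_one t, show (1 : ℤ) = ((1 : ℕ) : ℤ) from rfl, h2, zpow_add, zpow_mul, zpow_mul,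
      zpow_natCast, zpow_natCast, htm, one_zpow, mul_one]
  rw [h3]
  exact zpow_mem h1 _

/-- `H` is generated by its elements of odd order and any of its Sylow two-subgroups. -/
theorem le_oddGenerated_sup {H : Subgroup G} (T : Sylow 2 G) (hTH : (T : Subgroup G) ≤ H) :
    H ≤ Cfsg.oddGenerated H ⊔ (T : Subgroup G) := by
  set N := Cfsg.oddGenerated H
  have hNH : N ≤ H := (closure_le H).mpr fun x hx => hx.1
  have hn : H ≤ normalizer (N : Set G) := fun g hg => by
    refine H31.mem_normalizer_of_map_conj ?_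
    show (Subgroup.closure _).map _ = Subgroup.closure _
    rw [MonoidHom.map_closure]
    refine congrArg Subgroup.closure (Set.ext fun x => ⟨?_, fun hx => ⟨g⁻¹ * x * g, ⟨?_, ?_⟩, by simp [mul_assoc]⟩⟩)
    · rintro ⟨y, ⟨hy, ho⟩, rfl⟩
      refine ⟨mul_mem (mul_mem hg hy) (inv_mem hg), ?_⟩
      rw [orderOf_injective (MulAut.conj g).toMonoidHom (MulAut.conj g).injective]
      exact ho
    · exact mul_mem (mul_mem (inv_mem hg) hx.1) hg
    · have := orderOf_injective (MulAut.conj g⁻¹).toMonoidHom (MulAut.conj g⁻¹).injective x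
      simp only [MulEquiv.coe_toMonoidHom, MulAut.conj_apply, inv_inv] at this
      rw [this]
      exact hx.2
  haveI : (N.subgroupOf H).Normal := normal_subgroupOf_of_le_normalizer hn
  set Y := (N ⊔ (T : Subgroup G)).subgroupOf H
  have hq : IsPGroup 2 (↥H ⧸ N.subgroupOf H) := by
    intro q
    obtain ⟨h, rfl⟩ := QuotientGroup.mk'_surjective _ q
    obtain ⟨m, r, hr, hmr⟩ := Nat.exists_eq_two_pow_mul_odd (orderOf_pos h).ne'
    refine ⟨m, ?_⟩
    rw [← map_pow]
    refine (QuotientGroup.eq_one_iff _).mpr (mem_subgroupOf.mpr (subset_closure ⟨(h ^ 2 ^ m).2, ?_⟩))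
    rw [Subgroup.orderOf_coe, orderOf_pow' h (pow_ne_zero m two_ne_zero), hmr,
      Nat.gcd_eq_right (dvd_mul_right _ _), Nat.mul_div_cancel_left _ (pow_pos (by norm_num) m)]
    exact hr
  obtain ⟨k, hk⟩ := IsPGroup.iff_card.mp hq
  have h1 : Y.index ∣ 2 ^ k := hk ▸ index_dvd_of_le (comap_mono le_sup_left)
  have h2 : Y.index ∣ (T.subtype hTH : Subgroup ↥H).index := index_dvd_of_le (by
    rw [Sylow.coe_subtype]; exact comap_mono le_sup_right)
  have h3 : Y.index = 1 := Nat.eq_one_of_dvd_coprimes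
    (Nat.Coprime.pow_left k ((Nat.Prime.coprime_iff_not_dvd Nat.prime_two).mpr (T.subtype hTH).not_dvd_index))
    h1 h2
  exact subgroupOf_eq_top.mp (index_eq_one.mp h3)

theorem exists_common (hE : Cfsg.IsOfEvenCharacteristic G) (T : Sylow 2 G) (M H R : Subgroup G)
    (hTM : (T : Subgroup G) ≤ M) (hTH : (T : Subgroup G) ≤ H) (hO : Cfsg.pCore 2 ↥H ≠ ⊥)
    (hU : ∃! K : Subgroup ↥H, IsCoatom K ∧ (T : Subgroup G).subgroupOf H ≤ K)
    (hR : R ≠ ⊥) (hRT : R ≤ (T : Subgroup G))
    (hRS : ∃ P : Sylow 2 ↥(Cfsg.oddGenerated H ⊔ R),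
      (P : Subgroup ↥(Cfsg.oddGenerated H ⊔ R)) = R.subgroupOf (Cfsg.oddGenerated H ⊔ R))
    (hRM : M ≤ normalizer (R : Set G)) :
    ∃ R₀ : Subgroup G, R₀ ≠ ⊥ ∧ R₀ ≤ R ∧ M ⊔ H ≤ normalizer (R₀ : Set G) := by
  classical
  set X := Cfsg.oddGenerated H ⊔ R
  obtain ⟨S, hS'⟩ := hRS
  have hRX : R ≤ X := le_sup_right
  have hS : (S : Subgroup ↥X).map X.subtype = R := by rw [hS', map_subgroupOf_eq_of_le hRX]
  have hXH : X ≤ H := sup_le ((closure_le H).mpr fun x hx => hx.1) (hRT.trans hTH)
  have hTR : (T : Subgroup G) ≤ normalizer (R : Set G) := hTM.trans hRM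
  have hH : H ≤ Cfsg.oddGenerated H ⊔ (T : Subgroup G) := le_oddGenerated_sup T hTH
  -- `T` normalizes `X`
  have hTX : (T : Subgroup G) ≤ normalizer (X : Set G) := by
    refine le_trans (le_inf ?_ hTR) (normalizer_inf_normalizer_le_normalizer_sup _ _)
    intro t ht
    refine H31.mem_normalizer_of_map_conj ?_
    show (Subgroup.closure _).map _ = Subgroup.closure _
    rw [MonoidHom.map_closure]
    refine congrArg Subgroup.closure (Set.ext fun x => ⟨?_, fun hx => ⟨t⁻¹ * x * t, ⟨?_, ?_⟩, by simp [mul_assoc]⟩⟩)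
    · rintro ⟨y, ⟨hy, ho⟩, rfl⟩
      refine ⟨mul_mem (mul_mem (hTH ht) hy) (inv_mem (hTH ht)), ?_⟩
      rw [orderOf_injective (MulAut.conj t).toMonoidHom (MulAut.conj t).injective]
      exact ho
    · exact mul_mem (mul_mem (inv_mem (hTH ht)) hx.1) (hTH ht)
    · have := orderOf_injective (MulAut.conj t⁻¹).toMonoidHom (MulAut.conj t⁻¹).injective x
      simp only [MulEquiv.coe_toMonoidHom, MulAut.conj_apply, inv_inv] at this
      rw [this]
      exact hx.2
  have hHX : H ≤ X ⊔ (T : Subgroup G) := hH.trans (sup_le_sup_right le_sup_left _)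
  have hTXR : (T : Subgroup G) ⊓ X ≤ R := by
    intro x hx
    have h1 := S.is_maximal' ((T.isPGroup'.to_le (inf_le_left : (T : Subgroup G) ⊓ X ≤ T)).comap_subtype
      (K := X)) (fun y hy => by
        rw [hS'] at hy
        exact ⟨hRT (mem_subgroupOf.mp hy), y.2⟩)
    have h2 : (⟨x, hx.2⟩ : ↥X) ∈ (S : Subgroup ↥X) := h1.le (mem_subgroupOf.mpr hx)
    rw [hS'] at h2
    exact mem_subgroupOf.mp h2
  -- the only maximal subgroup over `T`
  obtain ⟨K, hK, huniq⟩ := hU
  set K' := K.map H.subtype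
  have hTK : (T : Subgroup G) ≤ K' := fun t ht =>
    ⟨⟨t, hTH ht⟩, hK.2 (mem_subgroupOf.mpr ht), rfl⟩
  have hHK : ¬ H ≤ K' := fun h => hK.1.1 (eq_top_iff.mpr fun x _ => by
    obtain ⟨y, hy, he⟩ := h x.2
    rwa [← Subtype.ext he])
  have hproper : ∀ Y : Subgroup G, Y ≤ H → (T : Subgroup G) ≤ Y → ¬ H ≤ Y → Y ≤ K' := by
    intro Y hYH hTY hne
    obtain ⟨C, hC, hle⟩ := (eq_top_or_exists_le_coatom (Y.subgroupOf H)).resolve_left
      (fun h => hne (subgroupOf_eq_top.mp h))
    have hCK : C = K := huniq C ⟨hC, (comap_mono hTY).trans hle⟩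
    subst hCK
    exact fun y hy => ⟨⟨y, hYH hy⟩, hle (mem_subgroupOf.mpr hy), rfl⟩
  have hinv : ∀ A : Subgroup G, A ≤ X → R ≤ A → (T : Subgroup G) ≤ normalizer (A : Set G) → ¬ X ≤ A →
      A ≤ K' := by
    intro A hAX hRA hTA hne
    refine le_sup_left.trans (hproper (A ⊔ (T : Subgroup G)) (sup_le (hAX.trans hXH) hTH) le_sup_right
      fun hle => hne fun x hx => ?_)
    have h1 := hle (hXH hx)
    rw [sup_comm] at h1
    obtain ⟨t, ht, a, ha, rfl⟩ := Set.mem_mul.mp ((coe_mul_of_left_le_normalizer_right _ A hTA).le h1)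
    have htX : t ∈ X := by simpa using mul_mem hx (inv_mem (hAX ha))
    exact mul_mem (hRA (hTXR ⟨ht, htX⟩)) ha
  have hMsup : ∀ R₀ : Subgroup G, (T : Subgroup G) ≤ normalizer (R₀ : Set G) → X ≤ normalizer (R₀ : Set G) →
      H ≤ normalizer (R₀ : Set G) := fun R₀ h1 h2 => hHX.trans (sup_le h2 h1)
  -- a characteristic subgroup of `R` normal in `X`
  by_cases hchar : ∃ C : Subgroup G, C ≠ ⊥ ∧ C ≤ R ∧ (C.subgroupOf R).Characteristic ∧
      X ≤ normalizer (C : Set G)
  · obtain ⟨C, hC0, hCR, hCc, hCX⟩ := hchar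
    have hN := H11.PushUpMin.normalizer_le_of_characteristic hCR hCc
    exact ⟨C, hC0, hCR, sup_le (hRM.trans hN) (hMsup C (hTR.trans hN) hCX)⟩
  push Not at hchar
  -- characteristic two
  haveI : Fact (Nat.Prime 2) := ⟨Nat.prime_two⟩
  have hGH : centralizer (Cfsg.pCore 2 ↥H : Set ↥H) ≤ Cfsg.pCore 2 ↥H := by
    refine char_two_of_le_local hE T (Cores.pCore_isPGroup.map H.subtype)
      (fun h => hO ((map_eq_bot_iff_of_injective _ H.subtype_injective).mp h)) hTH fun h hh => ?_
    have := le_normalizer_map H.subtype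
      (mem_map_of_mem H.subtype (normalizer_eq_top (H := Cfsg.pCore 2 ↥H) ▸ mem_top (⟨h, hh⟩ : ↥H)))
    simpa using this
  have hXn : H ≤ normalizer (X : Set G) := hHX.trans (sup_le le_normalizer hTX)
  have hGX : centralizer (Cfsg.pCore 2 ↥X : Set ↥X) ≤ Cfsg.pCore 2 ↥X := by
    haveI : (X.subgroupOf H).Normal := normal_subgroupOf_of_le_normalizer hXn
    set C := centralizer (Cfsg.pCore 2 ↥X : Set ↥X)
    haveI hQn : (Cfsg.pCore 2 ↥X).Normal := inferInstance
    haveI : C.Normal := inferInstance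
    refine Cores.le_pCore ?_
    -- odd elements of `C` are trivial
    have key : ∀ x : ↥X, x ∈ C → Odd (orderOf x) → x = 1 := by
      intro x hx ho
      set O := (Cfsg.pCore 2 ↥H).map H.subtype
      have hOn : ∀ g ∈ H, g ∈ normalizer (O : Set G) := fun g hg => mem_normalizer_map_subtype _ hg
      have hcent : ∀ o ∈ O, (x : G) * o = o * x := by
        intro o ho'
        set z := ⁅(x : G), o⁆
        have hzO : z ∈ O := by
          show ⁅(x : G), o⁆ ∈ O
          rw [commutatorElement_def]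
          exact mul_mem ((mem_normalizer_iff.mp (hOn _ (hXH x.2)) o).mp ho') (inv_mem ho')
        have hzX : z ∈ X := by
          show ⁅(x : G), o⁆ ∈ X
          rw [show ⁅(x : G), o⁆ = x * (o * (x : G)⁻¹ * o⁻¹) by rw [commutatorElement_def]; group]
          exact mul_mem x.2 ((mem_normalizer_iff.mp (hXn (map_subtype_le _ ho')) _).mp (inv_mem x.2))
        have hzQ : (⟨z, hzX⟩ : ↥X) ∈ Cfsg.pCore 2 ↥X := by
          haveI hOX : (O.subgroupOf X).Normal := normal_subgroupOf_of_le_normalizer fun g hg => hOn g (hXH hg)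
          exact Cores.le_pCore (N := O.subgroupOf X) (hN := hOX) ((Cores.pCore_isPGroup.map H.subtype).comap_subtype) (mem_subgroupOf.mpr hzO)
        have hxz : Commute (x : G) z :=
          (congrArg Subtype.val (mem_centralizer_iff.mp hx _ hzQ)).symm
        have h1 : (x : G) * o = z * o * x := by simp [z, commutatorElement_def]
        have hn : ∀ n : ℕ, (x : G) ^ n * o = z ^ n * o * (x : G) ^ n := by
          intro n
          induction n with
          | zero => simp
          | succ n ih =>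
            calc (x : G) ^ (n + 1) * o = x * ((x : G) ^ n * o) := by rw [pow_succ', mul_assoc]
              _ = (x * z ^ n) * (o * (x : G) ^ n) := by rw [ih]; simp only [mul_assoc]
              _ = z ^ n * ((x : G) * o) * (x : G) ^ n := by
                  rw [(hxz.pow_right n).eq]; simp only [mul_assoc]
              _ = _ := by rw [h1, pow_succ z, pow_succ' (x : G)]; simp only [mul_assoc]
        have h2 := hn (orderOf (x : G))
        rw [pow_orderOf_eq_one, one_mul, mul_one, right_eq_mul, Subgroup.orderOf_coe] at h2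
        obtain ⟨m, hm⟩ := (Cores.pCore_isPGroup (p := 2) (G := ↥X)) ⟨_, hzQ⟩
        have hzm : z ^ 2 ^ m = 1 := by
          have := congrArg Subtype.val (congrArg Subtype.val hm)
          simpa using this
        have h3 : orderOf z = 1 := Nat.eq_one_of_dvd_coprimes
          (Nat.Coprime.pow_right m (Nat.coprime_two_right.mpr ho))
          (orderOf_dvd_of_pow_eq_one h2) (orderOf_dvd_of_pow_eq_one hzm)
        exact commutatorElement_eq_one_iff_mul_comm.mp (orderOf_eq_one_iff.mp h3)
      have hxQ : (⟨x, hXH x.2⟩ : ↥H) ∈ Cfsg.pCore 2 ↥H := hGH (mem_centralizer_iff.mpr fun o ho' =>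
        Subtype.ext (hcent o (mem_map_of_mem H.subtype ho')).symm)
      obtain ⟨m, hm⟩ := (Cores.pCore_isPGroup (p := 2) (G := ↥H)) ⟨_, hxQ⟩
      have hxm : (x : G) ^ 2 ^ m = 1 := by
        have := congrArg Subtype.val (congrArg Subtype.val hm)
        simpa using this
      have hd : orderOf x ∣ 2 ^ m := by
        rw [← Subgroup.orderOf_coe]; exact orderOf_dvd_of_pow_eq_one hxm
      exact orderOf_eq_one_iff.mp (Nat.eq_one_of_dvd_coprimes
        (Nat.Coprime.pow_right m (Nat.coprime_two_right.mpr ho)) dvd_rfl hd)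
    intro ⟨x, hx⟩
    obtain ⟨m, r, hr, hn⟩ := Nat.exists_eq_two_pow_mul_odd (orderOf_pos x).ne'
    refine ⟨m, Subtype.ext ?_⟩
    show x ^ 2 ^ m = 1
    refine key _ (pow_mem hx _) ?_
    rw [orderOf_pow' x (pow_ne_zero m two_ne_zero), hn, Nat.gcd_eq_right (dvd_mul_right _ _),
      Nat.mul_div_cancel_left _ (pow_pos (by norm_num) m)]
    exact hr
  -- the join of the normalizers is proper
  have hjoinK : (Cfsg.charNormalizersJoin (S : Subgroup ↥X)).map X.subtype ≤ K' := by
    unfold Cfsg.charNormalizersJoin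
    rw [Subgroup.map_iSup]
    refine iSup_le fun C => ?_
    set C' := (C : Subgroup ↥X).map X.subtype
    have hC'R : C' ≤ R := hS ▸ map_mono C.2.1
    have hC'c : (C'.subgroupOf R).Characteristic := by
      let ψ₀ : ↥(S : Subgroup ↥X) ≃* ↥R :=
        (equivMapOfInjective _ X.subtype X.subtype_injective).trans (MulEquiv.subgroupCongr hS)
      have he : C'.subgroupOf R = ((C : Subgroup ↥X).subgroupOf (S : Subgroup ↥X)).map ψ₀.toMonoidHom := by
        ext y
        constructor
        · rintro ⟨z, hz, hzy⟩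
          exact ⟨⟨z, C.2.1 hz⟩, hz, Subtype.ext hzy⟩
        · rintro ⟨z, hz, rfl⟩
          exact ⟨_, hz, rfl⟩
      rw [he, characteristic_iff_map_eq]
      intro ψ
      conv_rhs => rw [← (characteristic_iff_map_eq.mp C.2.2.2 ((ψ₀.trans ψ).trans ψ₀.symm))]
      rw [Subgroup.map_map, Subgroup.map_map]
      congr 1
      ext z
      simp
    have hC'0 : C' ≠ ⊥ := fun h => C.2.2.1 ((map_eq_bot_iff_of_injective _ X.subtype_injective).mp h)
    have hN := H11.PushUpMin.normalizer_le_of_characteristic hC'R hC'c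
    have hmemA : ∀ {x : ↥X}, x ∈ normalizer ((C : Subgroup ↥X) : Set ↥X) ↔
        (x : G) ∈ normalizer (C' : Set G) := by
      intro x
      refine ⟨fun hx => le_normalizer_map X.subtype (mem_map_of_mem X.subtype hx), fun hx => ?_⟩
      refine mem_normalizer_iff.mpr fun y => ?_
      have h1 := mem_normalizer_iff.mp hx (y : G)
      constructor
      · intro hy
        obtain ⟨z, hz, he⟩ := h1.mp (mem_map_of_mem X.subtype hy)
        rwa [show x * y * x⁻¹ = z from Subtype.ext (by simpa using he.symm)]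
      · intro hy
        obtain ⟨z, hz, he⟩ := h1.mpr (mem_map_of_mem X.subtype hy)
        rwa [show y = z from Subtype.ext he.symm]
    refine hinv _ (map_subtype_le _) (fun r hr => ⟨⟨r, hRX hr⟩, hmemA.mpr (hN (le_normalizer hr)), rfl⟩)
      ?_ fun hle => hchar C' hC'0 hC'R hC'c fun x hx => ?_
    · intro t ht
      refine H31.mem_normalizer_of_map_conj (le_antisymm ?_ ?_)
      · rintro _ ⟨_, ⟨x, hx, rfl⟩, rfl⟩
        have htX := (mem_normalizer_iff.mp (hTX ht) (x : G)).mp x.2
        exact ⟨⟨_, htX⟩, hmemA.mpr (mul_mem (mul_mem (hN (hTR ht)) (hmemA.mp hx)) (inv_mem (hN (hTR ht)))), rfl⟩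
      · rintro _ ⟨x, hx, rfl⟩
        have htX := (mem_normalizer_iff.mp (hTX ht) (t⁻¹ * (x : G) * t)).mpr (by simp [mul_assoc])
        exact ⟨t⁻¹ * (x : G) * t, ⟨⟨_, htX⟩, hmemA.mpr (mul_mem (mul_mem (inv_mem (hN (hTR ht)))
          (hmemA.mp hx)) (hN (hTR ht))), rfl⟩, by simp [mul_assoc]⟩
    · obtain ⟨y, hy, rfl⟩ := hle hx
      exact hmemA.mp hy
  have hXK : ¬ X ≤ K' := fun h => hHK (hHX.trans (sup_le h hTK))
  have hjoin : Cfsg.charNormalizersJoin (S : Subgroup ↥X) ≠ ⊤ := fun h => hXK (by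
    rw [h, ← MonoidHom.range_eq_map, range_subtype] at hjoinK
    exact hjoinK)
  have hZ : Cfsg.omegaOneCenter 2 (S : Subgroup ↥X) ≠ ⊥ := H13.LocalCT.omegaOneCenter_ne_bot hGX S hjoin
  have c : Ctx S := mk_ctx hGX (H13.LocalCT.cStar_ne_top hZ hjoin)
  have hgood := good_of_ctx c
  have hcsK : (cs S).map X.subtype ≤ K' := (map_mono (H13.LocalCT.cStar_le_join hZ)).trans hjoinK
  -- the members and the action of `T`
  let ψ : ∀ t ∈ (T : Subgroup G), MulAut ↥X := fun t ht => conjX X t (hTX ht)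
  have hψS : ∀ t (ht : t ∈ (T : Subgroup G)), (S : Subgroup ↥X).map (ψ t ht).toMonoidHom = S :=
    fun t ht => conjX_fix (hTX ht) (hTR ht) hS
  let P0 : Subgroup ↥X → Subgroup G := fun E => ⨆ t : ↥(T : Subgroup G), conjS (E.map X.subtype) (t : G)
  have hP0n : ∀ E, (T : Subgroup G) ≤ normalizer (P0 E : Set G) := by
    intro E t ht
    have hle : ∀ t ∈ (T : Subgroup G), conjS (P0 E) t ≤ P0 E := fun t ht => by
      show (⨆ s : ↥(T : Subgroup G), conjS (E.map X.subtype) (s : G)).map _ ≤ _
      rw [Subgroup.map_iSup]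
      refine iSup_le fun s => ?_
      show conjS (conjS (E.map X.subtype) (s : G)) t ≤ _
      rw [conjS_conjS]
      exact le_iSup (fun s : ↥(T : Subgroup G) => conjS (E.map X.subtype) (s : G))
        (⟨t * s, mul_mem ht s.2⟩ : ↥(T : Subgroup G))
    refine H11.LocalC.mem_normalizer_of_conjS (le_antisymm (hle t ht) ?_)
    have := conjS_mono (hle t⁻¹ (inv_mem ht)) t
    rwa [conjS_conjS, mul_inv_cancel, conjS_one] at this
  have hEP0 : ∀ E, E.map X.subtype ≤ P0 E := fun E =>
    (conjS_one _).ge.trans (le_iSup (fun s : ↥(T : Subgroup G) => conjS (E.map X.subtype) (s : G)) 1)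
  have hP0X : ∀ E, P0 E ≤ X := fun E => iSup_le fun t =>
    (conjS_mono (map_subtype_le _) _).trans (conjS_eq_self (hTX t.2)).le
  obtain ⟨E₀, hE₀, hbig⟩ : ∃ E₀, Member S E₀ ∧ ¬ P0 E₀ ≤ K' := by
    by_contra h0
    push Not at h0
    refine hXK ?_
    rw [← range_subtype X, MonoidHom.range_eq_map, ← H13.LocalCAssembly.generate c hgood, Subgroup.map_sup]
    refine sup_le hcsK ?_
    rw [map_le_iff_le_comap]
    exact sSup_le fun E hE => map_le_iff_le_comap.mp ((hEP0 E).trans (h0 E hE))
  have hHP : H ≤ P0 E₀ ⊔ (T : Subgroup G) := by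
    by_contra hne
    exact hbig (le_sup_left.trans (hproper _ (sup_le ((hP0X _).trans hXH) hTH) le_sup_right hne))
  have hoddP : ∀ x ∈ H, Odd (orderOf x) → x ∈ P0 E₀ := by
    intro x hx ho
    have h1 := hHP hx
    rw [sup_comm] at h1
    obtain ⟨t, ht, p, hp, rfl⟩ := Set.mem_mul.mp ((coe_mul_of_left_le_normalizer_right _ _ (hP0n E₀)).le h1)
    have hn := hP0n E₀ ht
    obtain ⟨m, hm⟩ := T.isPGroup' ⟨t, ht⟩
    have h2 : t * p = (t * p * t⁻¹) * t := by group
    rw [h2] at ho ⊢
    exact mem_of_odd_mul ((mem_normalizer_iff.mp hn p).mp hp) hn (congrArg Subtype.val hm) ho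
  have hres : ∀ E, Member S E → E.map X.subtype ≤ P0 E₀ := by
    intro E hE
    rw [← (hE.data c).res, map_le_iff_le_comap]
    unfold Cfsg.pResidualOf Cfsg.pResidual
    rw [MonoidHom.map_closure, closure_le]
    rintro _ ⟨e, he, rfl⟩
    refine hoddP _ (hXH (e : ↥X).2) ?_
    show Odd (orderOf (((e : ↥X)) : G))
    rw [Subgroup.orderOf_coe, Subgroup.orderOf_coe]
    exact Nat.coprime_two_right.mp he
  have hconjMem : ∀ (E : Subgroup ↥X) (t : G) (ht : t ∈ (T : Subgroup G)),
      conjS (E.map X.subtype) t = (E.map (ψ t ht).toMonoidHom).map X.subtype := fun E t ht =>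
    (map_conjX (hTX ht) E).symm
  have htrans : ∀ E, Member S E → ∃ (g : G) (hg : g ∈ (T : Subgroup G)),
      E₀.map (conjX X g (hTX hg)).toMonoidHom = E := by
    intro E hE
    by_contra h0
    push Not at h0
    have hcomm : P0 E₀ ≤ centralizer (E.map X.subtype : Set G) := iSup_le fun t => by
      rw [hconjMem E₀ t t.2]
      have hm := member_map _ (hψS t t.2) hE₀
      have h1 := commutator_eq_bot_iff_le_centralizer.mp ((hm.eq_or_commute c hE).resolve_left (h0 t t.2))
      rintro _ ⟨x, hx, rfl⟩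
      exact (H11.PushUpMin.mem_centralizer_map X.subtype_injective).mpr (h1 hx)
    have hab : ⁅E.map X.subtype, E.map X.subtype⁆ = ⊥ :=
      commutator_eq_bot_iff_le_centralizer.mpr ((hres E hE).trans hcomm)
    rw [← Subgroup.map_commutator, map_eq_bot_iff_of_injective _ X.subtype_injective] at hab
    refine (hE.data c).toCore.U_ne (le_bot_iff.mp ?_)
    rw [← hab]
    exact commutator_mono ((H43.Blocks.wSub_le 2 E).trans (qSub_le 2 E)) le_rfl
  have hoddΓ : ∀ x : ↥X, Odd (orderOf x) → x ∈ pP S := by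
    intro x ho
    have h1 : P0 E₀ ≤ (pP S).map X.subtype := iSup_le fun t => by
      rw [hconjMem E₀ t t.2]
      exact map_mono (le_iSup₂_of_le (f := fun E _ => E) _ (member_map _ (hψS t t.2) hE₀) le_rfl)
    obtain ⟨y, hy, he⟩ := h1 (hoddP _ (hXH x.2) (by rwa [Subgroup.orderOf_coe]))
    rwa [← Subtype.ext he]
  obtain ⟨L⟩ := exists_loc c hE₀ (H13.LocalCT.degree_of_structure c.hG S hjoin
    (𝓑 := {E | Member S E})
    ⟨fun E hE => hE.block, fun E hE g => H13.LocalCAssembly.member_conj c hgood hE g,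
      fun E hE F hF hne => (hE.eq_or_commute c hF).resolve_left hne, H13.LocalCAssembly.generate c hgood,
      fun E hE hout => H13.LocalCAssembly.exists_member hgood ⟨hE, hout⟩,
      le_antisymm (H13.LocalCAssembly.inf_sup_le c fun E hE => (H13.LocalCAssembly.clause_and_mixed c hE).2)
        (iSup₂_le fun E hE => le_inf inf_le_left (inf_le_right.trans (le_sSup hE))),
      fun E hE => (H13.LocalCAssembly.clause_and_mixed c hE).1⟩ E₀ hE₀)
  obtain ⟨Sy⟩ := exists_sys (T := (T : Subgroup G)) c hS hTX hTR hRT hE₀ L htrans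
  set U := (uP S).map X.subtype with hUdef
  set Q := (qG 2 ↥X).map X.subtype with hQdef
  have hTQ : (T : Subgroup G) ≤ normalizer (Q : Set G) := fun t ht => by
    refine H31.mem_normalizer_of_map_conj ?_
    show conjS Q t = Q
    rw [hQdef, ← map_conjX (hTX ht), Cores.pCore_map_mulEquiv]
  have hTU : (T : Subgroup G) ≤ normalizer (U : Set G) := by
    have hle : ∀ t (ht : t ∈ (T : Subgroup G)), conjS U t ≤ U := fun t ht => by
      rw [hUdef, ← map_conjX (hTX ht)]
      refine map_mono ?_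
      rw [map_le_iff_le_comap]
      refine iSup₂_le fun E hE => map_le_iff_le_comap.mp ?_
      rw [map_uSub]
      exact le_iSup₂_of_le (f := fun E _ => uSub 2 E) _ (member_map _ (hψS t ht) hE) le_rfl
    intro t ht
    refine H11.LocalC.mem_normalizer_of_conjS (le_antisymm (hle t ht) ?_)
    have := conjS_mono (hle t⁻¹ (inv_mem ht)) t
    rwa [conjS_conjS, mul_inv_cancel, conjS_one] at this
  have hQR : Q ≤ R := hS ▸ map_mono (Cores.pCore_le_sylow S)
  have hqn : X ≤ normalizer (Q : Set G) := fun x hx => mem_normalizer_map_subtype _ hx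
  have hcentU : Q ≤ centralizer (U : Set G) := by
    rintro _ ⟨q, hq, rfl⟩
    exact (H11.PushUpMin.mem_centralizer_map X.subtype_injective).mpr (qG_le_cent c hq)
  have b : Base M (T : Subgroup G) R Q U := {
    qR := hQR
    uQ := map_mono (uP_le_qG c)
    uJ := by
      show U ≤ Cfsg.thompsonSubgroupOf 2 R
      rw [← hS, ← H31.thompsonSubgroupOf_map X.subtype_injective]
      exact map_mono (uP_le_js c)
    uA := (H31.elem_map_iff X.subtype_injective).mpr (uP_elem c)
    rU := hRT.trans hTU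
    cent := by
      intro r hr
      obtain ⟨hr1, hr2⟩ := hr
      refine ⟨⟨r, hRX hr1⟩, cent_le c hoddΓ ((H11.PushUpMin.mem_centralizer_map X.subtype_injective).mp hr2), rfl⟩
    centU := hcentU
    self := by
      intro r hr
      obtain ⟨hr1, hr2⟩ := hr
      refine ⟨⟨r, hRX hr1⟩, hGX ((H11.PushUpMin.mem_centralizer_map X.subtype_injective).mp hr2), rfl⟩
    mR := hRM
    tM := hTM
    tQ := hTQ
    odd := by
      show ¬ 2 ∣ ((T : Subgroup G).subgroupOf M).index
      have := (T.subtype hTM).not_dvd_index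
      rwa [Sylow.coe_subtype] at this
    nonElem := by
      intro hne
      -- an involution of the centre of `T` among the squares
      have hSqQ : sqSub Q ≤ Q := (closure_le Q).mpr fun x ⟨q, hq, he⟩ => he ▸ mul_mem hq hq
      have hTsq : (T : Subgroup G) ≤ normalizer (sqSub Q : Set G) := fun t ht => by
        refine H31.mem_normalizer_of_map_conj ?_
        show (Subgroup.closure _).map _ = Subgroup.closure _
        rw [MonoidHom.map_closure]
        refine congrArg Subgroup.closure (Set.ext fun x => ⟨?_, fun hx => ?_⟩)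
        · rintro ⟨_, ⟨q, hq, rfl⟩, rfl⟩
          exact ⟨t * q * t⁻¹, (mem_normalizer_iff.mp (hTQ ht) q).mp hq, by simp [mul_assoc]⟩
        · obtain ⟨q, hq, rfl⟩ := hx
          exact ⟨_, ⟨t⁻¹ * q * t, (mem_normalizer_iff.mp (hTQ ht) _).mpr (by simpa [mul_assoc] using hq), rfl⟩,
            by simp [mul_assoc]⟩
      haveI : ((sqSub Q).subgroupOf (T : Subgroup G)).Normal := normal_subgroupOf_of_le_normalizer hTsq
      obtain ⟨z, hz, hzc, hz2⟩ := PGroups.exists_mem_center_orderOf_eq T.isPGroup'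
        ((sqSub Q).subgroupOf (T : Subgroup G)) fun h => hne (by
          have h1 := disjoint_iff.mp (subgroupOf_eq_bot.mp h)
          rwa [inf_eq_left.mpr (hSqQ.trans (hQR.trans hRT))] at h1)
      have hzs : (z : G) ∈ sqSub Q := hz
      set N := centralizer ({(z : G)} : Set G)
      have hTN : (T : Subgroup G) ≤ N := fun t ht => mem_centralizer_singleton_iff.mpr
        (congrArg Subtype.val (mem_center_iff.mp hzc ⟨t, ht⟩))
      have hz2' : orderOf (z : G) = 2 := by rw [Subgroup.orderOf_coe, hz2]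
      have hNz := H29.KM.normalizer_zpowers_eq hz2'
      have hGN : centralizer (Cfsg.pCore 2 ↥N : Set ↥N) ≤ Cfsg.pCore 2 ↥N := by
        refine char_two_of_le_local hE T (P := zpowers (z : G))
          (IsPGroup.of_card (n := 1) (by rw [Nat.card_zpowers, hz2', pow_one])) (fun h => ?_) hTN hNz.ge
        rw [zpowers_eq_bot] at h
        rw [h, orderOf_one] at hz2'
        omega
      have hzP : ∀ E, Member S E → E.map X.subtype ≤ N := by
        intro E hE
        rintro _ ⟨e, he, rfl⟩
        refine mem_centralizer_singleton_iff.mpr ?_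
        have hle : sqSub Q ≤ centralizer ({(e : G)} : Set G) := by
          refine (closure_le _).mpr ?_
          rintro _ ⟨_, ⟨q, hq, rfl⟩, rfl⟩
          exact mem_centralizer_singleton_iff.mpr
            (congrArg Subtype.val (sq_comm_member c hE (qG_le_cent c hq) he))
        exact (mem_centralizer_singleton_iff.mp (hle hzs)).symm
      set O := (Cfsg.pCore 2 ↥N).map N.subtype
      have hOn : N ≤ normalizer (O : Set G) := fun x hx => mem_normalizer_map_subtype _ hx
      have hO2 : IsPGroup 2 O := Cores.pCore_isPGroup.map _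
      have hOT : O ≤ (T : Subgroup G) := by
        rintro _ ⟨y, hy, rfl⟩
        have := Cores.pCore_le_sylow (T.subtype hTN) hy
        rw [Sylow.coe_subtype] at this
        exact this
      refine ⟨z, hzs, O, hO2, ?_, hOn⟩
      -- `[O, P]` is a normal two-subgroup of `X`
      set P := P0 E₀
      have hPN : P ≤ N := iSup_le fun t => by
        rw [hconjMem E₀ t t.2]; exact hzP _ (member_map _ (hψS t t.2) hE₀)
      set D := ⁅O, P⁆
      have hDO : D ≤ O := Coprime.commutator_le_left_of_normalizer (hPN.trans hOn)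
      have hDP : D ≤ P := (commutator_comm O P).le.trans
        (Coprime.commutator_le_left_of_normalizer (hOT.trans (hP0n E₀)))
      have hDn : H ≤ normalizer (D : Set G) := hHP.trans (sup_le (Subgroup.normalizer_commutator_ge_right O P)
        fun t ht => by
          refine H31.mem_normalizer_of_map_conj ?_
          rw [Subgroup.map_commutator, H31.map_conj_eq_of_mem_normalizer (hOn (hTN ht)),
            H31.map_conj_eq_of_mem_normalizer (hP0n E₀ ht)])
      have hDQ : D ≤ Q := by
        haveI : (D.subgroupOf X).Normal := normal_subgroupOf_of_le_normalizer (hXH.trans hDn)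
        intro d hd
        exact ⟨⟨d, hP0X _ (hDP hd)⟩, Cores.le_pCore (N := D.subgroupOf X) ((hO2.to_le hDO).comap_subtype) (mem_subgroupOf.mpr hd), rfl⟩
      by_contra hUO
      -- every member centralises `O`
      have hEO : ∀ E, Member S E → ⁅O, E.map X.subtype⁆ = ⊥ := by
        intro E hE
        set E' := E.map X.subtype with hE'def
        have hres' : Cfsg.pResidualOf 2 E' = E' := by
          rw [hE'def, H11.PushUpMin.map_pResidualOf_inj X.subtype_injective, (hE.data c).res]
        have hidem : ⁅⁅O, E'⁆, E'⁆ = ⁅O, E'⁆ :=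
          H62.Blocks.commutator_commutator_eq E' O hres' hO2 ((hzP E hE).trans hOn)
        have hleU : ⁅O, E'⁆ ≤ (uSub 2 E).map X.subtype := by
          rw [← hidem]
          refine (commutator_mono ((commutator_mono le_rfl (hres E hE)).trans hDQ) le_rfl).trans ?_
          rw [hQdef, hE'def, ← Subgroup.map_commutator]
          exact map_mono (commutator_le.mpr fun q hq e he => comm_mem_uSub c hE (qG_le_cent c hq) he)
        obtain ⟨A, hA, hAeq⟩ : ∃ A : Subgroup ↥X, A ≤ uSub 2 E ∧ A.map X.subtype = ⁅O, E'⁆ := by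
          refine ⟨(⁅O, E'⁆).subgroupOf X, fun a ha => ?_, map_subgroupOf_eq_of_le (hleU.trans (map_subtype_le _))⟩
          obtain ⟨a', ha', he⟩ := hleU (mem_subgroupOf.mp ha)
          rwa [← Subtype.ext he]
        have hAE : ⁅A, E⁆ = A := map_injective X.subtype_injective (by
          rw [Subgroup.map_commutator, hAeq]; exact hidem)
        by_contra hne0
        have hAn : E ≤ normalizer (A : Set ↥X) := by
          conv_rhs => rw [← hAE]
          exact Subgroup.normalizer_commutator_ge_right A E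
        have hAz : ¬ A ≤ zSub 2 E := fun hz => hne0 (by
          rw [← hAeq, map_eq_bot_iff_of_injective _ X.subtype_injective, ← hAE, eq_bot_iff,
            ← H43.Blocks.commutator_zSub (p := 2) E E le_rfl]
          exact commutator_mono hz le_rfl)
        have hAU := hE.toOut.eq_uSub c hA hAn hAz
        have hUEO : (uSub 2 E).map X.subtype ≤ O := by
          rw [← hAU, hAeq]
          exact Coprime.commutator_le_left_of_normalizer ((hzP E hE).trans hOn)
        refine hUO ?_
        rw [hUdef, map_le_iff_le_comap]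
        refine iSup₂_le fun F hF => map_le_iff_le_comap.mp ?_
        obtain ⟨g, hg, hgE⟩ := htrans E hE
        obtain ⟨f, hf, hfE⟩ := htrans F hF
        have h1 : (uSub 2 F).map X.subtype = conjS ((uSub 2 E).map X.subtype) (f * g⁻¹) := by
          rw [← hgE, ← hfE, ← map_uSub, ← map_uSub, map_conjX, map_conjX, conjS_conjS, inv_mul_cancel_right]
        rw [h1]
        exact (conjS_mono hUEO _).trans (conjS_eq_self (hOn (hTN (mul_mem hf (inv_mem hg))))).le
      -- so some member is trivial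
      have hPO : P ≤ centralizer (O : Set G) := iSup_le fun t => by
        rw [hconjMem E₀ t t.2]
        exact le_centralizer_iff.mp (commutator_eq_bot_iff_le_centralizer.mp
          (hEO _ (member_map _ (hψS t t.2) hE₀)))
      have hEO' : E₀.map X.subtype ≤ O := fun x hx => by
        refine ⟨⟨x, hPN (hEP0 E₀ hx)⟩, hGN (mem_centralizer_iff.mpr fun y hy => Subtype.ext ?_), rfl⟩
        exact mem_centralizer_iff.mp (hPO (hEP0 E₀ hx)) _ (mem_map_of_mem N.subtype hy)
      have hp : IsPGroup 2 E₀ :=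
        (hO2.to_le hEO').of_equiv (equivMapOfInjective E₀ X.subtype X.subtype_injective).symm
      refine (hE₀.data c).toCore.U_ne (le_bot_iff.mp ?_)
      have hbot : E₀ = ⊥ := by
        rw [← (hE₀.data c).res, eq_bot_iff]
        unfold Cfsg.pResidualOf Cfsg.pResidual
        rw [MonoidHom.map_closure, closure_le]
        rintro _ ⟨e, he, rfl⟩
        obtain ⟨m, hm⟩ := hp e
        have h1 : orderOf e = 1 := Nat.eq_one_of_dvd_coprimes (Nat.Coprime.pow_right m he) dvd_rfl
          (orderOf_dvd_of_pow_eq_one hm)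
        rw [orderOf_eq_one_iff] at h1
        simp [h1]
      show ⁅wSub 2 E₀, E₀⁆ ≤ ⊥
      conv_lhs => arg 2; rw [hbot]
      rw [commutator_bot_right] }
  -- all conjugates lie in `Q`
  have hall := Sy.conj_le b
  set R₀ : Subgroup G := ⨆ θ : ↥M, conjS U (θ : G)
  have hUR : U ≤ R₀ := (conjS_one U).ge.trans (le_iSup (fun θ : ↥M => conjS U (θ : G)) 1)
  have hR₀Q : R₀ ≤ Q := iSup_le fun θ => hall θ θ.2
  have hMn : M ≤ normalizer (R₀ : Set G) := by
    have hle : ∀ t ∈ M, conjS R₀ t ≤ R₀ := fun t ht => by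
      show (⨆ s : ↥M, conjS U (s : G)).map _ ≤ _
      rw [Subgroup.map_iSup]
      refine iSup_le fun s => ?_
      show conjS (conjS U (s : G)) t ≤ _
      rw [conjS_conjS]
      exact le_iSup (fun s : ↥M => conjS U (s : G)) (⟨t * s, mul_mem ht s.2⟩ : ↥M)
    intro t ht
    refine H11.LocalC.mem_normalizer_of_conjS (le_antisymm (hle t ht) ?_)
    have := conjS_mono (hle t⁻¹ (inv_mem ht)) t
    rwa [conjS_conjS, mul_inv_cancel, conjS_one] at this
  refine ⟨R₀, fun h => ?_, hR₀Q.trans hQR, sup_le hMn (hHP.trans (sup_le ?_ (hTM.trans hMn)))⟩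
  · have h1 : U = ⊥ := le_bot_iff.mp (h ▸ hUR)
    rw [hUdef, map_eq_bot_iff_of_injective _ X.subtype_injective] at h1
    exact (hE₀.data c).toCore.U_ne
      (le_bot_iff.mp (h1 ▸ le_iSup₂_of_le (f := fun E _ => uSub 2 E) E₀ hE₀ le_rfl))
  · -- `P` normalizes `R₀`
    intro x hx
    refine mem_normalizer_iff.mpr fun r => ?_
    have key : ∀ x ∈ P0 E₀, ∀ r ∈ R₀, x * r * x⁻¹ ∈ R₀ := by
      intro x hx r hr
      have hxP : x ∈ (pP S).map X.subtype := by
        refine (iSup_le fun t => ?_ : P0 E₀ ≤ (pP S).map X.subtype) hx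
        rw [hconjMem E₀ t t.2]
        exact map_mono (le_iSup₂_of_le (f := fun E _ => E) _ (member_map _ (hψS t t.2) hE₀) le_rfl)
      obtain ⟨p, hp, rfl⟩ := hxP
      obtain ⟨q, hq, rfl⟩ := hR₀Q hr
      have h1 : ⁅q, p⁆⁻¹ * q ∈ qG 2 ↥X ∧ X.subtype (⁅q, p⁆⁻¹) ∈ U :=
        ⟨mul_mem (inv_mem (uP_le_qG c (qG_commutator_le c (commutator_mem_commutator hq hp)))) hq,
          mem_map_of_mem _ (inv_mem (qG_commutator_le c (commutator_mem_commutator hq hp)))⟩
      have h2 : X.subtype p * X.subtype q * (X.subtype p)⁻¹ = X.subtype (⁅q, p⁆⁻¹) * X.subtype q := by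
        rw [← map_inv, ← map_mul, ← map_mul, ← map_mul, commutatorElement_def]
        congr 1
        group
      rw [h2]
      exact mul_mem (hUR h1.2) hr
    exact ⟨key x hx r, fun h => by simpa [mul_assoc] using key x⁻¹ (inv_mem hx) _ h⟩

end Cfsg.Agent.H42.QTPush
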